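import Cfsg.Agent.Recog.OddTransitive.Basic
import Mathlib.Algebra.Algebra.ZMod
import Mathlib.FieldTheory.Finite.Basic

/-!
# The normaliser of an abelian irreducible subgroup acts through Galois automorphisms
-/

set_option autoImplicit false
set_option linter.style.haveILetI false
set_option linter.unusedSectionVars false

namespace CfsgLib.OddTransitive

universe u v

variable {D : Type u} [Group D] [Finite D] {E : Type v} [AddCommGroup E] [Finite E]
  [DistribMulAction D E] [FaithfulSMul D E]

/-- A subgroup normalising a commutative irreducible subgroup and meeting its centraliser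
trivially is cyclic. -/
theorem cyclic_of_normalizing [Nontrivial E] (h2 : ∀ e : E, 2 • e = 0) (F : Subgroup D) [F.Normal]
    (hF : ∀ a ∈ F, ∀ b ∈ F, a * b = b * a) (hirr : IsIrred F E) (A : Subgroup D)
    (hA : ∀ a ∈ A, (∀ f ∈ F, a * f = f * a) → a = 1) : IsCyclic A := by
  classical
  haveI : Fact (Nat.Prime 2) := ⟨Nat.prime_two⟩
  let L : D →* AddMonoid.End E :=
    { toFun := fun d => DistribSMul.toAddMonoidHom E d
      map_one' := AddMonoidHom.ext fun e => one_smul D e
      map_mul' := fun a b => AddMonoidHom.ext fun e => mul_smul a b e }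
  let S : Subring (AddMonoid.End E) := Subring.centralizer (L '' (F : Set D))
  have hker : ∀ f : S, f ≠ 0 → ∀ e : E, f.1 e = 0 → e = 0 := by
    intro f hf
    let W : AddSubgroup E := (f.1 : E →+ E).ker
    rcases hirr W fun h hh w hw => by
      have hc := congrArg (fun g : AddMonoid.End E => g w)
        (Subring.mem_centralizer_iff.1 f.2 (L h) ⟨h, hh, rfl⟩)
      show f.1 (h • w) = 0
      refine Eq.trans hc.symm ?_
      show h • f.1 w = 0
      rw [show f.1 w = 0 from hw, smul_zero] with h0 | h0
    · exact fun e he => AddSubgroup.mem_bot.1 (h0 ▸ (he : e ∈ W))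
    · refine absurd (Subtype.ext (AddMonoidHom.ext fun e => ?_) : f = 0) hf
      exact AddMonoidHom.mem_ker.1 (h0 ▸ AddSubgroup.mem_top e : e ∈ W)
  haveI : Finite (AddMonoid.End E) := Finite.of_injective (fun f => ⇑f) DFunLike.coe_injective
  haveI : Nontrivial S := by
    obtain ⟨e, he⟩ := exists_ne (0 : E)
    exact ⟨⟨1, 0, fun h => he (DFunLike.congr_fun (congrArg Subtype.val h) e)⟩⟩
  haveI : NoZeroDivisors S := ⟨fun {a b} hab => by
    by_contra hne
    push Not at hne
    exact hne.2 (Subtype.ext (AddMonoidHom.ext fun e => hker a hne.1 _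
      (DFunLike.congr_fun (congrArg Subtype.val hab) e)))⟩
  haveI : IsDomain S := NoZeroDivisors.to_isDomain S
  letI : Field S := (Finite.isDomain_to_isField S).toField
  haveI : CharP S 2 := by
    refine (CharP.charP_iff_prime_eq_zero Nat.prime_two).2 ?_
    rw [Nat.cast_ofNat, ← one_add_one_eq_two]
    refine Subtype.ext (AddMonoidHom.ext fun e => ?_)
    show (1 + 1 : AddMonoid.End E) e = (0 : E)
    show e + e = 0
    rw [← two_nsmul]
    exact h2 e
  letI : Algebra (ZMod 2) S := ZMod.algebra S 2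
  have hLd : ∀ d : D, L d * L d⁻¹ = 1 ∧ L d⁻¹ * L d = 1 := fun d =>
    ⟨by rw [← map_mul, mul_inv_cancel, map_one], by rw [← map_mul, inv_mul_cancel, map_one]⟩
  have hmem : ∀ (d : D) (f : S), L d * f.1 * L d⁻¹ ∈ S := fun d f => by
    refine Subring.mem_centralizer_iff.2 ?_
    rintro _ ⟨g, hg, rfl⟩
    have hc := Subring.mem_centralizer_iff.1 f.2 (L (d⁻¹ * g * d))
      ⟨_, by simpa using (inferInstance : F.Normal).conj_mem g hg d⁻¹, rfl⟩
    calc L g * (L d * f.1 * L d⁻¹) = L (g * d) * f.1 * L d⁻¹ := by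
          simp only [map_mul, mul_assoc]
      _ = L d * (L (d⁻¹ * g * d) * f.1) * L d⁻¹ := by
          rw [← mul_assoc (L d), ← map_mul, show d * (d⁻¹ * g * d) = g * d by group]
      _ = L d * (f.1 * L (d⁻¹ * g * d)) * L d⁻¹ := by rw [hc]
      _ = L d * f.1 * (L (d⁻¹ * g * d) * L d⁻¹) := by simp only [mul_assoc]
      _ = L d * f.1 * (L d⁻¹ * L g) := by
          rw [← map_mul, ← map_mul, show d⁻¹ * g * d * d⁻¹ = d⁻¹ * g by group]
      _ = L d * f.1 * L d⁻¹ * L g := by simp only [mul_assoc]
  let θ : D → S →+* S := fun d =>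
    { toFun := fun f => ⟨L d * f.1 * L d⁻¹, hmem d f⟩
      map_one' := Subtype.ext (by simp only [Subring.coe_one, mul_one, (hLd d).1])
      map_mul' := fun f g => Subtype.ext (by
        show L d * (f.1 * g.1) * L d⁻¹ = L d * f.1 * L d⁻¹ * (L d * g.1 * L d⁻¹)
        simp only [mul_assoc]
        rw [← mul_assoc (L d⁻¹) (L d), (hLd d).2, one_mul])
      map_zero' := Subtype.ext (by simp)
      map_add' := fun f g => Subtype.ext (by
        show L d * (f.1 + g.1) * L d⁻¹ = L d * f.1 * L d⁻¹ + L d * g.1 * L d⁻¹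
        rw [mul_add, add_mul]) }
  have hθmul : ∀ (a b : D) (f : S), θ (a * b) f = θ a (θ b f) := fun a b f => Subtype.ext (by
    show L (a * b) * f.1 * L (a * b)⁻¹ = L a * (L b * f.1 * L b⁻¹) * L a⁻¹
    simp only [mul_inv_rev, map_mul, mul_assoc])
  have hθone : ∀ f : S, θ 1 f = f := fun f => Subtype.ext (by
    show L 1 * f.1 * L 1⁻¹ = f.1
    rw [inv_one, map_one, one_mul, mul_one])
  let ψ : A →* (S ≃ₐ[ZMod 2] S) :=
    { toFun := fun a =>
        { toFun := θ a
          invFun := θ (a : D)⁻¹
          left_inv := fun f => by rw [← hθmul, inv_mul_cancel, hθone]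
          right_inv := fun f => by rw [← hθmul, mul_inv_cancel, hθone]
          map_mul' := map_mul (θ a)
          map_add' := map_add (θ a)
          commutes' := fun r => DFunLike.congr_fun
            (RingHom.ext_zmod ((θ a).comp (algebraMap (ZMod 2) S)) (algebraMap (ZMod 2) S)) r }
      map_one' := AlgEquiv.ext fun f => hθone f
      map_mul' := fun a b => AlgEquiv.ext fun f => hθmul a b f }
  refine isCyclic_of_injective ψ ((injective_iff_map_eq_one ψ).2 fun a ha => Subtype.ext ?_)
  refine hA a a.2 fun f hf => ?_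
  have hfS : L f ∈ S := Subring.mem_centralizer_iff.2 (by
    rintro _ ⟨g, hg, rfl⟩
    rw [← map_mul, ← map_mul, hF g hg f hf])
  have h : L (a : D) * L f * L (a : D)⁻¹ = L f :=
    congrArg Subtype.val (AlgEquiv.congr_fun ha ⟨L f, hfS⟩)
  rw [← map_mul, ← map_mul] at h
  refine mul_inv_eq_iff_eq_mul.1 (FaithfulSMul.eq_of_smul_eq_smul (α := E) fun e => ?_)
  exact DFunLike.congr_fun h e

end CfsgLib.OddTransitive
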