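import Cfsg.Agent.Char.CenterValues
import Cfsg.Agent.Char.Constituents
import Cfsg.Agent.Char.GaloisTwist
import Cfsg.Agent.Char.Kernel
import Cfsg.Agent.Char.SmallDegreeSylow
import Cfsg.Agent.Char.SmallTI
import Cfsg.Agent.HalfDegree.Irreducible
import Cfsg.Agent.SmallSimple.ColumnData

/-!
# Constituents of a character fixed by squaring in a group of odd order

In a group of odd order let `χ` be a character of degree `n` with `χ (g ^ 2) = χ g`. Squaring
permutes the constituents, and a constituent fixed by it sees whole orbits of `2` on the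
exponents; this bounds the degrees of the constituents.
-/

set_option autoImplicit false
set_option linter.style.haveILetI false
set_option linter.unusedSectionVars false

namespace CfsgLib.OddTransitive

open Cfsg Finset CfsgLib.Char

universe u

variable {G : Type u} [Group G] [Fintype G]

/-- Squaring is a bijection in a group of odd order. -/
theorem sq_bijective (hodd : Odd (Nat.card G)) : Function.Bijective fun g : G => g ^ 2 :=
  (powCoprime (G := G) (n := 2) (Nat.Coprime.symm (Nat.coprime_two_left.2 hodd))).bijective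

/-- The twist of an irreducible character by squaring is irreducible. -/
theorem isIrr_sq (hodd : Odd (Nat.card G)) {φ : G → ℂ} (hφ : Cfsg.IsIrrCharacter G φ) :
    Cfsg.IsIrrCharacter G fun g => φ (g ^ 2) := by
  obtain ⟨σ, hσ⟩ := exists_ringEquiv_pow (Nat.card_pos : 0 < Nat.card G) (t := 2)
    (Nat.coprime_two_left.2 hodd)
  have h : (fun g => σ (φ g)) = fun g => φ (g ^ 2) := funext fun g =>
    IsCharacter.map_ringEquiv_eq_pow (IsIrrCharacter.isCharacter hφ) σ fun z hz =>
      hσ z (by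
        obtain ⟨k, hk⟩ := orderOf_dvd_natCard g
        rw [hk, pow_mul, hz, one_pow])
  exact h ▸ IsIrrCharacter.map_ringEquiv hφ σ

theorem classInner_sq (hodd : Odd (Nat.card G)) {χ φ : G → ℂ} (hsq : ∀ g, χ (g ^ 2) = χ g) :
    Cfsg.classInner χ (fun g => φ (g ^ 2)) = Cfsg.classInner χ φ := by
  rw [Cfsg.classInner, Cfsg.classInner]
  congr 1
  exact (sq_bijective hodd).sum_comp (fun g => χ g * (starRingEnd ℂ) (φ g)) ▸
    sum_congr rfl fun g _ => by rw [hsq]

/-- A set of constituents has total degree at most the degree. -/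
theorem sum_degree_le {χ : G → ℂ} (hχ : Cfsg.IsCharacter G χ) {n : ℕ} (hn : χ 1 = n)
    {ι : Type*} (s : Finset ι) (f : ι → G → ℂ) (hinj : Set.InjOn f s)
    (hf : ∀ i ∈ s, Cfsg.IsIrrCharacter G (f i) ∧ Cfsg.classInner χ (f i) ≠ 0) (d : ι → ℕ)
    (hd : ∀ i ∈ s, f i 1 = d i) : ∑ i ∈ s, d i ≤ n := by
  classical
  have h := congrFun (eq_sum_irr (IsCharacter.isClassFunction hχ)) 1
  rw [Finset.sum_apply] at h
  choose m hm using fun ψ : {ψ // ψ ∈ irrFinset G} =>
    IsCharacter.exists_classInner_eq_natCast hχ (mem_irrFinset.1 ψ.2)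
  choose e _ he using fun ψ : {ψ // ψ ∈ irrFinset G} =>
    IsIrrCharacter.exists_degree (mem_irrFinset.1 ψ.2)
  have hsum : n = ∑ ψ : {ψ // ψ ∈ irrFinset G}, m ψ * e ψ := by
    rw [hn, ← Finset.sum_coe_sort (irrFinset G)] at h
    simp only [Pi.smul_apply, smul_eq_mul, hm, he, ← Nat.cast_mul, ← Nat.cast_sum] at h
    exact_mod_cast h
  let g : {i // i ∈ s} → {ψ // ψ ∈ irrFinset G} := fun i =>
    ⟨f i, mem_irrFinset.2 (hf i i.2).1⟩
  have hg : Function.Injective g := fun i j hij =>
    Subtype.ext (hinj i.2 j.2 (congrArg Subtype.val hij))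
  rw [hsum, ← Finset.sum_coe_sort s]
  refine le_trans ?_ (Finset.sum_le_sum_of_subset (s := Finset.univ.image g) (subset_univ _))
  rw [Finset.sum_image fun i _ j _ hij => hg hij]
  refine Finset.sum_le_sum fun i _ => ?_
  have h1 : (d i : ℕ) = e (g i) := Nat.cast_injective (R := ℂ) ((hd i i.2).symm.trans (he (g i)))
  have h2 : m (g i) ≠ 0 := fun h0 => (hf i i.2).2 (by
    have := hm (g i)
    rw [h0, Nat.cast_zero] at this
    exact this)
  rw [h1]
  exact Nat.le_mul_of_pos_left _ (Nat.pos_of_ne_zero h2)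

/-- **The degree of a constituent** moving an element whose order is a prime `p` in which `2` has
order `k`. -/
theorem constituent_bound (hodd : Odd (Nat.card G)) {χ φ : G → ℂ} (hχ : Cfsg.IsCharacter G χ)
    {n d : ℕ} (hn : χ 1 = n) (hsq : ∀ g, χ (g ^ 2) = χ g) (hφ : Cfsg.IsIrrCharacter G φ)
    (hne : Cfsg.classInner χ φ ≠ 0) (hd : φ 1 = d) {x : G} {p : ℕ} [Fact p.Prime]
    (hx : orderOf x = p) (hmv : φ x ≠ φ 1) {k : ℕ}
    (hk : ∀ i, 0 < i → i < k → ¬ p ∣ 2 ^ i - 1) :
    2 * d ≤ n ∨ (k ≤ d ∧ d ≤ n ∧ Odd d ∧ ∀ g, φ (g ^ 2) = φ g) := by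
  classical
  have hdodd : Odd d := hodd.of_dvd_nat (IsIrrCharacter.degree_dvd_card hφ hd)
  have hdn : d ≤ n := by
    simpa using sum_degree_le hχ hn {()} (fun _ => φ) (by simp) (fun _ _ => ⟨hφ, hne⟩)
      (fun _ => d) fun _ _ => hd
  by_cases hfix : ∀ g, φ (g ^ 2) = φ g
  swap
  · left
    let f : Bool → G → ℂ := fun b => if b then φ else fun g => φ (g ^ 2)
    have h := sum_degree_le hχ hn Finset.univ f (fun a _ b _ hab => ?_)
      (fun b _ => ?_) (fun _ => d) fun b _ => ?_
    · simpa [two_mul] using h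
    · cases a <;> cases b <;> simp only [f] at hab ⊢
      · exact absurd (fun g => congrFun hab g) hfix
      · exact absurd (fun g => (congrFun hab g).symm) hfix
    · cases b
      · exact ⟨isIrr_sq hodd hφ, by
          show Cfsg.classInner χ (fun g => φ (g ^ 2)) ≠ 0
          rwa [classInner_sq hodd hsq]⟩
      · exact ⟨hφ, hne⟩
    · cases b <;> simp [f, hd]
  refine Or.inr ⟨?_, hdn, hdodd, hfix⟩
  have hp : p.Prime := Fact.out
  have hφc := IsIrrCharacter.isCharacter hφ
  obtain ⟨c, hc⟩ := CfsgLib.ColumnData.exists_count hx hφc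
  have hp2 : p ≠ 2 := fun h => by
    have h1 : p ∣ Nat.card G := hx ▸ orderOf_dvd_natCard x
    exact Nat.not_even_iff_odd.2 hodd (even_iff_two_dvd.2 (h ▸ h1))
  have h20 : (2 : ZMod p) ≠ 0 := fun h => hp2 ((Nat.prime_dvd_prime_iff_eq hp Nat.prime_two).1
    ((ZMod.natCast_eq_zero_iff 2 p).1 (by exact_mod_cast h)))
  have hinv : ∀ b, c (2 * b) = c b := by
    refine CfsgLib.ColumnData.count_pow hx hc hc h20 fun j => ?_
    rw [← hfix (x ^ j.val), ← pow_mul]
    refine congrArg φ (pow_eq_pow_iff_modEq.2 ?_)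
    rw [hx, ← ZMod.natCast_eq_natCast_iff]
    simp [mul_comm]
  have hinvn : ∀ i b, c (2 ^ i * b) = c b := fun i b => by
    induction i with
    | zero => simp
    | succ i ih => rw [pow_succ', mul_assoc, hinv, ih]
  have hsum : d = ∑ b, c b := Nat.cast_injective (R := ℂ)
    (hd.symm.trans (CfsgLib.ColumnData.sum_count hx hc))
  obtain ⟨b, hb, hcb⟩ : ∃ b : ZMod p, b ≠ 0 ∧ c b ≠ 0 := by
    by_contra hall
    push Not at hall
    refine hmv ?_
    have h := hc 1
    rw [ZMod.val_one, pow_one] at h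
    rw [h, CfsgLib.ColumnData.sum_count hx hc, Nat.cast_sum]
    refine sum_congr rfl fun t _ => ?_
    by_cases ht : t = 0
    · rw [ht, zero_mul, AddChar.map_zero_eq_one, mul_one]
    · rw [hall t ht, Nat.cast_zero, zero_mul]
  have hinjk : Set.InjOn (fun i => (2 : ZMod p) ^ i * b) (range k : Finset ℕ) := by
    intro i hi j hj hij
    simp only [coe_range, Set.mem_Iio] at hi hj
    have h := mul_right_cancel₀ hb hij
    suffices key : ∀ i j, i < j → j < k → (2 : ZMod p) ^ i = 2 ^ j → False by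
      rcases lt_trichotomy i j with hlt | heq | hgt
      · exact (key i j hlt hj h).elim
      · exact heq
      · exact (key j i hgt hi h.symm).elim
    intro i j hlt hj h
    refine hk (j - i) (by omega) (by omega) ?_
    rw [← ZMod.natCast_eq_zero_iff, Nat.cast_sub Nat.one_le_two_pow, Nat.cast_one, Nat.cast_pow,
      Nat.cast_ofNat, sub_eq_zero]
    rw [← Nat.add_sub_cancel' hlt.le, pow_add, eq_comm, mul_eq_left₀ (pow_ne_zero _ h20)] at h
    exact h
  rw [hsum]
  calc k = ∑ i ∈ range k, 1 := by simp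
    _ ≤ ∑ i ∈ range k, c ((2 : ZMod p) ^ i * b) :=
      Finset.sum_le_sum fun i _ => by rw [hinvn]; exact Nat.one_le_iff_ne_zero.2 hcb
    _ = ∑ t ∈ (range k).image (fun i => (2 : ZMod p) ^ i * b), c t := by
      rw [Finset.sum_image hinjk]
    _ ≤ ∑ t, c t := Finset.sum_le_sum_of_subset (subset_univ _)

/-- A constituent trivial on a subgroup contributes to the multiplicity of the trivial
character there. -/
theorem no_trivial {χ φ : G → ℂ} (hχ : Cfsg.IsCharacter G χ) (hφ : Cfsg.IsIrrCharacter G φ)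
    (hne : Cfsg.classInner χ φ ≠ 0) (H : Subgroup G) [Fintype H] (h0 : ∑ h : H, χ h = 0) :
    ∃ h ∈ H, φ h ≠ φ 1 := by
  by_contra hall
  push Not at hall
  obtain ⟨d, hd0, hd⟩ := IsIrrCharacter.exists_degree hφ
  have hψ := IsCharacter.restrict (IsCharacter.sub_irr hχ hφ hne) H
  have h1c : Cfsg.IsCharacter H (fun _ => (1 : ℂ)) :=
    ⟨1, Representation.trivial ℂ H (Fin 1 → ℂ), by
      funext g
      simp [Representation.character, Representation.trivial_apply, Module.finrank_fin_fun]⟩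
  obtain ⟨m, hm⟩ := IsCharacter.exists_classInner_eq_natCast' hψ h1c
  rw [Cfsg.classInner, inv_mul_eq_iff_eq_mul₀ (Nat.cast_ne_zero.2 Nat.card_pos.ne')] at hm
  simp only [map_one, mul_one, Pi.sub_apply, Finset.sum_sub_distrib, h0] at hm
  rw [Finset.sum_congr rfl fun (h : H) _ => (hall h h.2).trans hd, Finset.sum_const, card_univ,
    nsmul_eq_mul, zero_sub, Nat.card_eq_fintype_card, neg_eq_iff_add_eq_zero, ← mul_add,
    mul_eq_zero] at hm
  rcases hm with hm | hm
  · exact Fintype.card_ne_zero (Nat.cast_eq_zero.1 hm)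
  · rw [← Nat.cast_add, Nat.cast_eq_zero] at hm
    omega

/-- Small degree makes a Sylow subgroup normal, for any power of the prime. -/
theorem sylow_normal_of_deg {H : Type u} [Group H] [Finite H] {d : ℕ}
    (ρ : Representation ℂ H (Fin d → ℂ)) (hρ : Function.Injective ρ) {p : ℕ} [Fact p.Prime]
    (hd : 2 * d + 1 < p) (P : Sylow p H) : (P : Subgroup H).Normal := by
  refine sylow_normal_of_small_degree (Nat.card H) H rfl d ρ hρ p
    (Or.inr ⟨by omega, fun K hK Q => ?_⟩) P
  have hp : p.Prime := Fact.out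
  obtain ⟨a, ha⟩ := Q.isPGroup'.exists_card_eq
  have ha1 : a ≤ 1 := by
    by_contra hlt
    refine hK ((pow_dvd_pow p (by omega : 2 ≤ a)).trans ?_)
    rw [← ha]
    exact (Q : Subgroup K).card_subgroup_dvd_card
  interval_cases a
  · rw [Subgroup.eq_bot_of_card_eq (Q : Subgroup K) (by rw [ha, pow_zero])]
    infer_instance
  · haveI := Fintype.ofFinite K
    rw [pow_one] at ha
    obtain ⟨y, hy⟩ := exists_prime_orderOf_dvd_card' (G := (Q : Subgroup K)) p (by rw [ha])
    have hyo : orderOf (y : K) = p := by rw [Subgroup.orderOf_coe, hy]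
    have h := CfsgLib.HalfDegree.normal_sup_ker (ρ.comp K.subtype) hyo hK hd
    rw [(MonoidHom.ker_eq_bot_iff (ρ.comp K.subtype)).2 (fun a b hab => K.subtype_injective (hρ hab)),
      sup_bot_eq] at h
    rwa [← Subgroup.eq_of_le_of_card_ge (Subgroup.zpowers_le.2 y.2)
      (by rw [ha, Nat.card_zpowers, hyo])]

/-- **Normality from the degrees of the constituents.** -/
theorem sylow_normal {χ : G → ℂ} (hχ : Cfsg.IsCharacter G χ)
    (hfaith : ∀ g, χ g = χ 1 → g = 1) {p : ℕ} [Fact p.Prime] (P : Sylow p G)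
    (hdeg : ∀ φ, Cfsg.IsIrrCharacter G φ → Cfsg.classInner χ φ ≠ 0 → ∀ d : ℕ, φ 1 = d →
      2 * d + 1 < p) : (P : Subgroup G).Normal := by
  classical
  let ι := {φ : G → ℂ // φ ∈ irrFinset G ∧ Cfsg.classInner χ φ ≠ 0}
  let K : ι → Subgroup G := fun φ =>
    kerSubgroup (IsIrrCharacter.isCharacter (mem_irrFinset.1 φ.2.1))
  have hKn : ∀ φ, (K φ).Normal := fun φ => kerSubgroup_normal _
  have hnor : ∀ φ, ((P : Subgroup G) ⊔ K φ).Normal := by
    intro φ
    haveI := hKn φ
    obtain ⟨d, ρ, hρ, hρe⟩ := mem_irrFinset.1 φ.2.1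
    have hK : K φ = MonoidHom.ker ρ := by
      ext g
      rw [MonoidHom.mem_ker, ← character_eq_iff ρ g, ← ρ.char_one, hρe]
      rfl
    let ρ' : Representation ℂ (G ⧸ K φ) (Fin d → ℂ) := QuotientGroup.lift (K φ) ρ hK.le
    have hinj : Function.Injective ρ' := by
      refine (injective_iff_map_eq_one _).2 fun g hg => ?_
      obtain ⟨g, rfl⟩ := QuotientGroup.mk_surjective g
      rw [QuotientGroup.eq_one_iff, hK]
      exact hg
    have hn := sylow_normal_of_deg ρ' hinj (hdeg φ.1 (mem_irrFinset.1 φ.2.1) φ.2.2 d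
      (by rw [← hρe, ρ.char_one, Module.finrank_fin_fun]))
      (P.mapSurjective (QuotientGroup.mk'_surjective (K φ)))
    rw [Sylow.coe_mapSurjective] at hn
    have he : (P : Subgroup G) ⊔ K φ =
        ((P : Subgroup G).map (QuotientGroup.mk' (K φ))).comap (QuotientGroup.mk' (K φ)) := by
      rw [Subgroup.comap_map_eq, QuotientGroup.ker_mk']
    rw [he]
    exact hn.comap _
  let N : Subgroup G := ⨅ φ : ι, (P : Subgroup G) ⊔ K φ
  have hN : N.Normal := Subgroup.normal_iInf_normal hnor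
  have hNp : IsPGroup p N := by
    intro g
    obtain ⟨a, ha⟩ := P.isPGroup'.exists_card_eq
    refine ⟨a, Subtype.ext (hfaith _ ?_)⟩
    have hg : ∀ φ : ι, (g : G) ^ p ^ a ∈ K φ := fun φ => by
      haveI := hKn φ
      obtain ⟨u, hu, k, hk, he⟩ := Subgroup.mem_sup_of_normal_right.1 (Subgroup.mem_iInf.1 g.2 φ)
      rw [← he, ← QuotientGroup.eq_one_iff, QuotientGroup.mk_pow, QuotientGroup.mk_mul,
        (QuotientGroup.eq_one_iff k).2 hk, mul_one, ← QuotientGroup.mk_pow,
        show u ^ p ^ a = 1 from ha ▸ congrArg Subtype.val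
          (pow_card_eq_one' (G := (P : Subgroup G)) (x := ⟨u, hu⟩)), QuotientGroup.mk_one]
    rw [SubmonoidClass.coe_pow, eq_sum_irr (IsCharacter.isClassFunction hχ), Finset.sum_apply,
      Finset.sum_apply]
    refine sum_congr rfl fun φ hφ => ?_
    by_cases h0 : Cfsg.classInner χ φ = 0
    · simp [h0]
    · simp only [Pi.smul_apply]
      rw [show φ ((g : G) ^ p ^ a) = φ 1 from hg ⟨φ, hφ, h0⟩]
  rw [← P.is_maximal' hNp (le_iInf fun φ => le_sup_left)]
  exact hN

/-- **An abelian subgroup.** If all constituents of the restriction to a subgroup have degree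
one, the subgroup is commutative. -/
theorem commute_of_linear {χ : G → ℂ} (hχ : Cfsg.IsCharacter G χ)
    (hfaith : ∀ g, χ g = χ 1 → g = 1) (H : Subgroup G) [Fintype H]
    (hlin : ∀ ψ, Cfsg.IsIrrCharacter H ψ → Cfsg.classInner (fun x : H => χ x) ψ ≠ 0 → ψ 1 = 1)
    {a b : G} (ha : a ∈ H) (hb : b ∈ H) : a * b = b * a := by
  classical
  have h1 : χ (a * b * a⁻¹ * b⁻¹) = χ 1 := by
    have e := eq_sum_irr (IsCharacter.isClassFunction (IsCharacter.restrict hχ H))
    have e1 := congrFun e (⟨a, ha⟩ * ⟨b, hb⟩ * (⟨a, ha⟩ : H)⁻¹ * (⟨b, hb⟩ : H)⁻¹)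
    have e2 := congrFun e 1
    simp only [Subgroup.coe_mul, Subgroup.coe_inv, OneMemClass.coe_one, Finset.sum_apply,
      Pi.smul_apply, smul_eq_mul] at e1 e2
    refine e1.trans (Eq.trans (Finset.sum_congr rfl fun φ hφ => ?_) e2.symm)
    by_cases h0 : Cfsg.classInner (fun x : H => χ x) φ = 0
    · rw [h0, zero_mul, zero_mul]
    · obtain ⟨lam, rfl⟩ := IsCharacter.exists_hom
        (IsIrrCharacter.isCharacter (mem_irrFinset.1 hφ)) (hlin φ (mem_irrFinset.1 hφ) h0)
      simp only [map_mul, map_inv, mul_inv_cancel_comm, mul_inv_cancel, map_one]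
  have h2 := congrArg (fun z => z * (b * a)) (hfaith _ h1)
  simpa [mul_assoc] using h2

/-- **The centraliser of an element of prime order with two-dimensional eigenspaces is
commutative.** -/
theorem commute_centralizer (hodd : Odd (Nat.card G)) {χ : G → ℂ} (hχ : Cfsg.IsCharacter G χ)
    (hfaith : ∀ g, χ g = χ 1 → g = 1) (hsq : ∀ g, χ (g ^ 2) = χ g) {h : ℕ}
    (hn : χ 1 = ((2 * h : ℕ) : ℂ)) (hh : 0 < h) {y : G} {p : ℕ} [Fact p.Prime]
    (hy : orderOf y = p) (hord : ∀ i, 0 < i → i < h → ¬ p ∣ 2 ^ i - 1)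
    (h0 : ∀ [Fintype (Subgroup.zpowers y)], ∑ g : Subgroup.zpowers y, χ g = 0)
    {a b : G} (ha : a ∈ Subgroup.centralizer ({y} : Set G))
    (hb : b ∈ Subgroup.centralizer ({y} : Set G)) : a * b = b * a := by
  classical
  set H := Subgroup.centralizer ({y} : Set G)
  haveI := Fintype.ofFinite H
  have hyH : y ∈ H := Subgroup.mem_centralizer_singleton_iff.2 rfl
  set yH : H := ⟨y, hyH⟩
  have hHodd : Odd (Nat.card H) := hodd.of_dvd_nat H.card_subgroup_dvd_card
  have hyc : yH ∈ Subgroup.center H := Subgroup.mem_center_iff.2 fun g =>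
    Subtype.ext (Subgroup.mem_centralizer_singleton_iff.1 g.2)
  refine commute_of_linear hχ hfaith H (fun ψ hψ hne => ?_) ha hb
  obtain ⟨e, he0, he⟩ := IsIrrCharacter.exists_degree hψ
  have hsqH : ∀ g : H, χ ((g ^ 2 : H) : G) = χ g := fun g => hsq g
  -- the central character at `y`
  set lam : ℂ := ψ yH / ψ 1 with hlam
  have hψ0 : ψ 1 ≠ 0 := IsIrrCharacter.apply_one_ne_zero hψ
  have hpow : ∀ i : ℕ, ψ (yH ^ i) = ψ 1 * lam ^ i := by
    intro i
    induction i with
    | zero => simp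
    | succ i ih =>
      rw [pow_succ', IsIrrCharacter.apply_center_mul hψ hyc, ih, pow_succ]
      ring
  have hlamp : lam ^ p = 1 := by
    have h := hpow p
    have hy1 : yH ^ p = 1 := Subtype.ext (by simp [yH, ← hy, pow_orderOf_eq_one])
    rw [hy1] at h
    exact (mul_eq_left₀ hψ0).1 h.symm
  have hlam1 : lam ≠ 1 := by
    intro h1
    obtain ⟨g, hg, hmv⟩ := no_trivial (IsCharacter.restrict hχ H) hψ hne
      (Subgroup.zpowers yH) (by
        haveI := Fintype.ofFinite (Subgroup.zpowers y)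
        rw [← h0]
        have hmap : (Subgroup.zpowers yH).map H.subtype = Subgroup.zpowers y :=
          MonoidHom.map_zpowers _ _
        exact Fintype.sum_equiv (((Subgroup.zpowers yH).equivMapOfInjective H.subtype
          H.subtype_injective).trans (MulEquiv.subgroupCongr hmap)).toEquiv _ _ fun g => rfl)
    obtain ⟨i, rfl⟩ := Submonoid.mem_powers_iff _ _ |>.1
      ((mem_powers_iff_mem_zpowers (x := yH)).2 hg)
    exact hmv (by rw [hpow, h1, one_pow, mul_one])
  have hprim : IsPrimitiveRoot lam p :=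
    IsPrimitiveRoot.iff_orderOf.2 (orderOf_eq_prime hlamp hlam1)
  -- its twists
  have htwist : ∀ i : ℕ, Cfsg.IsIrrCharacter H (fun g => ψ (g ^ 2 ^ i)) ∧
      Cfsg.classInner (fun x : H => χ x) (fun g => ψ (g ^ 2 ^ i)) ≠ 0 := by
    intro i
    induction i with
    | zero => simpa using ⟨hψ, hne⟩
    | succ i ih =>
      have e1 : (fun g : H => ψ (g ^ 2 ^ (i + 1))) =
          fun g => (fun g => ψ (g ^ 2 ^ i)) (g ^ 2) := funext fun g => by
        rw [pow_succ', pow_mul]
      rw [e1]
      exact ⟨isIrr_sq hHodd ih.1,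
        (classInner_sq (φ := fun g : H => ψ (g ^ 2 ^ i)) hHodd hsqH).trans_ne ih.2⟩
  have hle : ∑ i ∈ range h, e ≤ 2 * h := by
    refine sum_degree_le (IsCharacter.restrict hχ H) (by simpa using hn) (range h)
      (fun i g => ψ (g ^ 2 ^ i)) (fun i hi j hj hij => ?_) (fun i _ => htwist i) (fun _ => e)
      fun i _ => by simp [he]
    simp only [coe_range, Set.mem_Iio] at hi hj
    have h1 := congrFun hij yH
    simp only [hpow, mul_right_inj' hψ0] at h1
    suffices key : ∀ i j, i < j → j < h → lam ^ 2 ^ i = lam ^ 2 ^ j → False by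
      rcases lt_trichotomy i j with hlt | heq | hgt
      · exact (key i j hlt hj h1).elim
      · exact heq
      · exact (key j i hgt hi h1.symm).elim
    clear h1 hij hi hj i j
    intro i j hlt hj h1
    refine hord (j - i) (by omega) (by omega) ?_
    have h2 : p ∣ 2 ^ j - 2 ^ i := by
      rw [← hprim.pow_eq_one_iff_dvd]
      have hle' : 2 ^ i ≤ 2 ^ j := Nat.pow_le_pow_right (by norm_num) hlt.le
      have h3 : lam ^ (2 ^ j - 2 ^ i) * lam ^ 2 ^ i = 1 * lam ^ 2 ^ i := by
        rw [← pow_add, Nat.sub_add_cancel hle', one_mul, h1]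
      exact mul_right_cancel₀ (pow_ne_zero _ (hprim.ne_zero (Fact.out : p.Prime).ne_zero)) h3
    have hcop : Nat.Coprime p (2 ^ i) := by
      refine Nat.Coprime.pow_right _ ((Fact.out : p.Prime).coprime_iff_not_dvd.2 fun hd => ?_)
      have hp2 : p = 2 := (Nat.prime_dvd_prime_iff_eq Fact.out Nat.prime_two).1 hd
      exact Nat.not_even_iff_odd.2 hodd
        (even_iff_two_dvd.2 (hp2 ▸ hy ▸ orderOf_dvd_natCard y))
    refine hcop.dvd_of_dvd_mul_left ?_
    rwa [Nat.mul_sub, mul_one, ← pow_add, Nat.add_sub_cancel' hlt.le]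
  rw [sum_const, card_range, smul_eq_mul] at hle
  have he2 : e ≤ 2 := Nat.le_of_mul_le_mul_left (by linarith : h * e ≤ h * 2) hh
  have heodd : Odd e := hHodd.of_dvd_nat (IsIrrCharacter.degree_dvd_card hψ he)
  rw [he, show e = 1 by interval_cases e <;> simp_all [Nat.odd_iff]]
  norm_num

end CfsgLib.OddTransitive
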