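import Cfsg.Agent.Blocks.BrauerRestrict
import Cfsg.Agent.Blocks.Congr
import Cfsg.Agent.Blocks.Decomposition
import Mathlib.Algebra.Module.ZMod
import Mathlib.FieldTheory.Finiteness
import Mathlib.RepresentationTheory.Basic

/-!
# The Brauer lift of an odd-order group of matrices over the field with two elements

A group of odd order acting on an elementary abelian 2-group of order `2 ^ n` has a complex
character of degree `n` which is faithful if the action is, has the same dimensions of fixed
points, and takes the same value on `g` and `g ^ 2`.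
-/

set_option autoImplicit false
set_option linter.style.haveILetI false
set_option linter.unusedSectionVars false

namespace CfsgLib.OddTransitive

open Cfsg Finset CfsgLib.Block CfsgLib.Block.Chr CfsgLib.BrauerPairs CfsgLib.BlockStar
  CfsgLib.Cyclic CfsgLib.BrauerBasis Module
open scoped Classical

universe u v

section general

variable {M : Ideal AlgInt} [M.IsPrime] {p : ℕ} [Fact p.Prime] [CharP (Residue M) p]
  {G : Type u} [Group G] [Fintype G]

local notation "𝕜" => Residue M
local notation "𝔸" => MonoidAlgebra (Residue M) G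

/-- The two properties of the Brauer character needed below. -/
def IsLift (p : ℕ) (M : Ideal AlgInt) [M.IsPrime] (X : Type u) [AddCommGroup X]
    [Module (Residue M) X] [Module (MonoidAlgebra (Residue M) G) X]
    [IsScalarTower (Residue M) (MonoidAlgebra (Residue M) G) X] : Prop :=
  IsCharacter G (bchar p M X) ∧ ∀ b : LA M G, b * b = b →
    cval (bchar (G := G) p M X) b =
      (finrank (Residue M) (LinearMap.range (act (Residue M) X (redA b))) : ℂ)

theorem isLift_leftIdeal (hM : IsPModular p M) (hG : ¬ p ∣ Nat.card G) {c : LA M G}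
    (hc : c * c = c) : IsLift (G := G) p M (leftIdeal (redA c)) := by
  letI := irrFintype (G := G)
  have e : bchar p M (leftIdeal (redA c)) =
      ∑ χ : IrrCharacter G, cval (χ : G → ℂ) c • (χ : G → ℂ) := by
    funext s
    rw [bchar_leftIdeal_eq_sum hM hc fun h => hG (h.trans (orderOf_dvd_natCard s))]
    simp only [Finset.sum_apply, Pi.smul_apply, smul_eq_mul, mul_comm]
  refine ⟨?_, fun b hb => ?_⟩
  · rw [e]
    refine CfsgLib.Char.isCharacter_sum _ fun χ _ => ?_
    obtain ⟨n, hn⟩ := exists_nat_cval χ hc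
    rw [hn]
    exact CfsgLib.Char.IsCharacter.natCast_smul
      (CfsgLib.Char.IsIrrCharacter.isCharacter χ.2) n
  · rw [finrank_pair hb hc, e]
    simp only [cval, Finset.sum_apply, Pi.smul_apply, smul_eq_mul, mul_sum]
    rw [sum_comm]
    refine sum_congr rfl fun χ _ => ?_
    rw [← mul_sum, sum_mul]
    exact sum_congr rfl fun z _ => by ring

theorem isLift_simple (hM : IsPModular p M) (hG : ¬ p ∣ Nat.card G) (m : Submodule 𝔸 𝔸) :
    IsLift (G := G) p M (𝔸 ⧸ m) := by
  haveI : NeZero (Nat.card G : 𝕜) := ⟨fun h => hG ((CharP.cast_eq_zero_iff 𝕜 p _).1 h)⟩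
  obtain ⟨U, hU⟩ := exists_isCompl m
  obtain ⟨c, hc, hUc⟩ : ∃ c : 𝔸, c * c = c ∧ U = leftIdeal c := by
    let π := Submodule.projectionOnto U m hU.symm
    refine ⟨(π 1 : U), ?_, le_antisymm (fun y hy => ?_) ?_⟩
    · have h : π ((π 1 : U) : 𝔸) = π 1 := Submodule.projectionOnto_apply_left hU.symm (π 1)
      calc ((π 1 : U) : 𝔸) * (π 1 : U) = (((π 1 : U) : 𝔸) • π 1 : U) := rfl
        _ = π (((π 1 : U) : 𝔸) • (1 : 𝔸)) := by rw [π.map_smul]
        _ = (π 1 : U) := by rw [smul_eq_mul, mul_one, h]
    · refine Submodule.mem_span_singleton.2 ⟨y, ?_⟩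
      have h : π y = ⟨y, hy⟩ := Submodule.projectionOnto_apply_left hU.symm ⟨y, hy⟩
      calc y • ((π 1 : U) : 𝔸) = ((y • π 1 : U) : 𝔸) := rfl
        _ = (π (y • (1 : 𝔸)) : U) := by rw [π.map_smul]
        _ = y := by rw [smul_eq_mul, mul_one, h]
    · exact (Submodule.span_singleton_le_iff_mem _ _).2 (π 1).2
  subst hUc
  obtain ⟨b, hb, hbred, -⟩ := exists_lift (M := M) (⊥ : Subgroup G) hc
    (CfsgLib.LocalSymm.fixBy_bot c)
  have T := Submodule.quotientEquivOfIsCompl m (leftIdeal c) hU
  obtain ⟨h1, h2⟩ : IsLift (G := G) p M (leftIdeal c) := hbred ▸ isLift_leftIdeal hM hG hb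
  refine ⟨(bchar_congr T).symm ▸ h1, fun a ha => ?_⟩
  rw [bchar_congr T, h2 a ha, finrank_act_map (T.restrictScalars 𝕜) (redA a) (redA a)
    fun x => T.map_smul (redA a) x]

theorem isLift (hM : IsPModular p M) (hG : ¬ p ∣ Nat.card G) :
    ∀ (d : ℕ) (X : Type u) [AddCommGroup X] [Module 𝕜 X] [Module 𝔸 X] [IsScalarTower 𝕜 𝔸 X]
      [FiniteDimensional 𝕜 X], finrank 𝕜 X = d → IsLift (G := G) p M X := by
  intro d
  induction d using Nat.strong_induction_on with
  | _ d ih =>
    intro X _ _ _ _ _ hd
    rcases subsingleton_or_nontrivial X with hs | hn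
    · have h0 : bchar (G := G) p M X = 0 := by
        funext s
        rw [bchar]
        split_ifs
        · rfl
        · rw [bval, sum_eq_zero fun j _ => ?_]
          · rfl
          · rw [Module.finrank_zero_of_subsingleton, Nat.cast_zero, mul_zero]
      refine ⟨h0 ▸ CfsgLib.Char.isCharacter_zero, fun b _ => ?_⟩
      rw [h0, Module.finrank_zero_of_subsingleton, Nat.cast_zero]
      simp [cval]
    · obtain ⟨U, hU⟩ := exists_simple_submodule (k := 𝕜) (G := G) (S := X)
      haveI := hU
      haveI : FiniteDimensional 𝕜 U := inferInstanceAs (FiniteDimensional 𝕜 (U.restrictScalars 𝕜))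
      haveI : FiniteDimensional 𝕜 (X ⧸ U) :=
        Module.Finite.of_surjective (U.mkQ.restrictScalars 𝕜) U.mkQ_surjective
      haveI := IsSimpleModule.nontrivial 𝔸 U
      have hpos : 0 < finrank 𝕜 U := Module.finrank_pos
      have hadd := finrank_eq_add (k := 𝕜) U
      obtain ⟨m, hm, ⟨T⟩⟩ := isSimpleModule_iff_quot_maximal.1 hU
      obtain ⟨a1, a2⟩ : IsLift (G := G) p M U := by
        obtain ⟨h1, h2⟩ := isLift_simple hM hG m
        refine ⟨(bchar_congr T).symm ▸ h1, fun a ha => ?_⟩
        rw [bchar_congr T, h2 a ha, finrank_act_map (T.restrictScalars 𝕜) (redA a) (redA a)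
          fun x => T.map_smul (redA a) x]
      obtain ⟨b1, b2⟩ : IsLift (G := G) p M (X ⧸ U) := ih _ (by omega) (X ⧸ U) rfl
      refine ⟨bchar_add (p := p) hM U ▸ CfsgLib.Char.IsCharacter.add a1 b1, fun a ha => ?_⟩
      rw [← bchar_add hM U, ← finrank_act_add U (by rw [← map_mul, ha] : redA a * redA a = redA a),
        Nat.cast_add, ← a2 a ha, ← b2 a ha]
      simp only [cval, Pi.add_apply, mul_add, sum_add_distrib]

end general

/-- Applying a field homomorphism entrywise does not increase the rank. -/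
theorem finrank_range_map_le {K : Type*} [Field K] {ι : Type*} [Fintype ι] [DecidableEq ι]
    (φ : K →+* K) (P : Matrix ι ι K) :
    finrank K (LinearMap.range (P.map φ).mulVecLin) ≤ finrank K (LinearMap.range P.mulVecLin) := by
  set W := LinearMap.range P.mulVecLin
  let b := Module.finBasis K W
  let w : Fin (finrank K W) → ι → K := fun i x => φ ((b i : ι → K) x)
  have hle : LinearMap.range (P.map φ).mulVecLin ≤ Submodule.span K (Set.range w) := by
    rw [Matrix.range_mulVecLin, Submodule.span_le]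
    rintro _ ⟨i, rfl⟩
    have hmem : P.col i ∈ W := by
      show _ ∈ LinearMap.range P.mulVecLin
      rw [Matrix.range_mulVecLin]
      exact Submodule.subset_span ⟨i, rfl⟩
    have h : (P.map φ).col i = ∑ l, φ (b.repr ⟨_, hmem⟩ l) • w l := by
      funext x
      have h0 : P x i = ∑ l, b.repr ⟨_, hmem⟩ l * (b l : ι → K) x := by
        have h1 := congrArg (fun z : W => (z : ι → K) x) (b.sum_repr ⟨_, hmem⟩)
        simp only [Submodule.coe_sum, Finset.sum_apply, SetLike.val_smul, Pi.smul_apply, smul_eq_mul] at h1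
        exact h1.symm
      simp [w, h0, Finset.sum_apply]
    rw [h]
    exact Submodule.sum_mem _ fun l _ => Submodule.smul_mem _ _ (Submodule.subset_span ⟨l, rfl⟩)
  refine (Submodule.finrank_mono hle).trans ((finrank_range_le_card w).trans ?_)
  simp

section two

variable {M : Ideal AlgInt} [M.IsPrime] [CharP (Residue M) 2]
  {G : Type u} [Group G] [Fintype G] {ι : Type u} [Fintype ι] [DecidableEq ι]

local notation "𝕜" => Residue M

/-- The square root of the twisting elements. -/
theorem twist_sq {s : G} (hs : Nat.Coprime 2 (orderOf s)) (j : ℕ) :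
    twist M (s ^ 2) (2 * j) = twist M s j ^ 2 := by
  rw [twist_pow, twist, (Nat.Coprime.orderOf_pow (Nat.Coprime.symm hs))]
  congr 1
  refine Subtype.ext ?_
  rw [SubmonoidClass.coe_pow, coe_lc (memLocalRing_zeta_inv (orderOf_pos s) j),
    coe_lc (memLocalRing_zeta_inv (orderOf_pos s) _), inv_pow, ← pow_mul, mul_comm j]

theorem eps_sq {s : G} (hs : Nat.Coprime 2 (orderOf s)) (j : ℕ) :
    eps M (s ^ 2) (2 * j) = eps M s j := by
  rw [eps, eps, twist_sq hs, (Nat.Coprime.orderOf_pow (Nat.Coprime.symm hs))]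
  congr 1
  set o := orderOf s
  have ho : 0 < o := orderOf_pos s
  have hv : twist M s j ^ o = 1 := twist_pow_orderOf s j
  refine Finset.sum_bij (fun i _ => (2 * i) % o) (fun i _ => mem_range.2 (Nat.mod_lt _ ho))
    (fun i hi k hk h => ?_) (fun i hi => ?_) fun i _ => ?_
  · exact Nat.ModEq.eq_of_lt_of_lt
      (Nat.ModEq.cancel_left_of_coprime (c := 2) (by rwa [Nat.gcd_comm]) h)
      (mem_range.1 hi) (mem_range.1 hk)
  · obtain ⟨k, hk⟩ : ∃ k, (2 * k) % o = i := by
      refine ⟨(o + 1) / 2 * i, ?_⟩
      have h2 : 2 * ((o + 1) / 2) = o + 1 := by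
        have : o % 2 = 1 := Nat.odd_iff.1 (Nat.coprime_two_left.1 hs)
        omega
      rw [← mul_assoc, h2, add_mul, one_mul, Nat.mul_add_mod_self_left,
        Nat.mod_eq_of_lt (mem_range.1 hi)]
    exact ⟨k % o, mem_range.2 (Nat.mod_lt _ ho), by rw [Nat.mul_mod, Nat.mod_mod, ← Nat.mul_mod, hk]⟩
  · rw [← pow_mul, ← pow_eq_pow_mod _ hv]

/-- Eigenvalue multiplicities of a representation defined over the prime field. -/
theorem mult_le (hM : IsPModular 2 M) (ρ : Representation 𝕜 G (ι → 𝕜))
    (hfix : ∀ g x y, (LinearMap.toMatrix' (ρ g) x y) ^ 2 = LinearMap.toMatrix' (ρ g) x y)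
    {s : G} (hs : ¬ 2 ∣ orderOf s) (j : ℕ) :
    finrank 𝕜 (LinearMap.range (act 𝕜 ρ.asModule (redA (eps M s (2 * j))))) ≤
      finrank 𝕜 (LinearMap.range (act 𝕜 ρ.asModule (redA (eps M s j)))) := by
  have hc : ((orderOf s : ℕ) : 𝕜) = 1 := by
    rw [CharP.natCast_eq_natCast' 𝕜 2 (show orderOf s ≡ 1 [MOD 2] from Nat.odd_iff.1
      (Nat.not_even_iff_odd.1 fun h => hs h.two_dvd)), Nat.cast_one]
  have hinv : res M (lc M ((orderOf s : ℂ)⁻¹)) = 1 := by
    have h : lc M ((orderOf s : ℂ)⁻¹) * (orderOf s : localRing M) = 1 := Subtype.ext (by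
      push_cast
      rw [coe_lc (memLocalRing_natCast_inv hM hs),
        inv_mul_cancel₀ (Nat.cast_ne_zero.2 (orderOf_pos s).ne')])
    simpa [map_mul, map_natCast, hc] using congrArg (res M) h
  let w : ℕ → 𝕜 := fun j => res M (lc M ((zeta (orderOf s) ^ j)⁻¹))
  have hw : ∀ j, w (2 * j) = w j ^ 2 := fun j => by
    rw [← map_pow]
    refine congrArg (res M) (Subtype.ext ?_)
    rw [SubmonoidClass.coe_pow, coe_lc (memLocalRing_zeta_inv (orderOf_pos s) j),
      coe_lc (memLocalRing_zeta_inv (orderOf_pos s) _), inv_pow, ← pow_mul, mul_comm j]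
  let P : ℕ → Matrix ι ι 𝕜 := fun j =>
    ∑ i ∈ range (orderOf s), (w j ^ i) • LinearMap.toMatrix' (ρ (s ^ i))
  have hact : ∀ j, act 𝕜 ρ.asModule (redA (eps M s j)) =
      (ρ.asModuleEquiv.symm.toLinearMap ∘ₗ (P j).mulVecLin ∘ₗ ρ.asModuleEquiv.toLinearMap) := by
    intro j
    have hsingle : ∀ (g : G) (c : localRing M),
        redA (MonoidAlgebra.single g c) = MonoidAlgebra.single g (res M c) := fun g c =>
      coeff_ext fun z => by
        by_cases hgz : g = z
        · subst hgz; simp
        · simp [hgz]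
    refine LinearMap.ext fun x => ρ.asModuleEquiv.injective ?_
    simp only [LinearMap.comp_apply, LinearEquiv.coe_coe, LinearEquiv.apply_symm_apply, act_apply]
    rw [Representation.asModuleEquiv_map_smul]
    simp only [eps, twist_pow, redA_smul, map_smul, map_sum, hsingle, map_pow, hinv, one_smul]
    simp only [LinearMap.sum_apply, Representation.asAlgebraHom_single, LinearMap.smul_apply, P,
      Matrix.mulVecLin_apply, Matrix.sum_mulVec, Matrix.smul_mulVec, LinearMap.toMatrix'_mulVec, w]
  have hrank : ∀ j, finrank 𝕜 (LinearMap.range (act 𝕜 ρ.asModule (redA (eps M s j)))) =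
      finrank 𝕜 (LinearMap.range (P j).mulVecLin) := fun j => by
    rw [hact, LinearMap.range_comp, LinearMap.range_comp_of_range_eq_top _ ρ.asModuleEquiv.range]
    exact LinearEquiv.finrank_map_eq ρ.asModuleEquiv.symm _
  haveI : Fact (Nat.Prime 2) := ⟨Nat.prime_two⟩
  rw [hrank, hrank]
  have hP : P (2 * j) = (P j).map (frobenius 𝕜 2) := by
    funext x y
    simp only [P, Matrix.map_apply, Matrix.sum_apply, Matrix.smul_apply, smul_eq_mul, map_sum,
      map_mul, frobenius_def, hfix, hw, ← pow_mul]
    exact sum_congr rfl fun i _ => by rw [mul_comm 2 i]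
  rw [hP]
  exact finrank_range_map_le _ _

/-- The Brauer character of such a representation takes the same value at `s` and `s ^ 2`. -/
theorem bval_sq (hM : IsPModular 2 M) (ρ : Representation 𝕜 G (ι → 𝕜))
    (hfix : ∀ g x y, (LinearMap.toMatrix' (ρ g) x y) ^ 2 = LinearMap.toMatrix' (ρ g) x y)
    {s : G} (hs : ¬ 2 ∣ orderOf s) :
    bval M ρ.asModule (s ^ 2) = bval M ρ.asModule s := by
  set o := orderOf s with hodef
  have ho : 0 < o := orderOf_pos s
  have hcop : Nat.Coprime 2 o := Nat.prime_two.coprime_iff_not_dvd.2 hs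
  have ho2 : orderOf (s ^ 2) = o := Nat.Coprime.orderOf_pow (Nat.Coprime.symm hcop)
  let m : G → ℕ → ℕ := fun t j =>
    finrank 𝕜 (LinearMap.range (act 𝕜 ρ.asModule (redA (eps M t j))))
  have hper : ∀ t : G, orderOf t = o → ∀ j, eps M t (j % o) = eps M t j := fun t ht j => by
    have hz : zeta o ^ (j % o) = zeta o ^ j :=
      (pow_eq_pow_mod _ (zeta_prim ho.ne').pow_eq_one).symm
    simp only [eps, twist, ht, hz]
  let z : ℕ → localRing M := fun j => lc M (zeta o ^ j)
  have hz : ∀ j, z (j % o) = z j := fun j => by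
    simp only [z, ← pow_eq_pow_mod j (zeta_prim ho.ne').pow_eq_one]
  have hbij : Set.BijOn (fun i => (2 * i) % o) (range o : Finset ℕ) (range o : Finset ℕ) := by
    refine ⟨fun i _ => mem_range.2 (Nat.mod_lt _ ho), fun i hi k hk h => ?_, fun i hi => ?_⟩
    · exact Nat.ModEq.eq_of_lt_of_lt
        (Nat.ModEq.cancel_left_of_coprime (c := 2) (by rwa [Nat.gcd_comm]) h)
        (mem_range.1 hi) (mem_range.1 hk)
    · refine ⟨((o + 1) / 2 * i) % o, mem_range.2 (Nat.mod_lt _ ho), ?_⟩
      have h2 : 2 * ((o + 1) / 2) = o + 1 := by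
        have : o % 2 = 1 := Nat.odd_iff.1 (Nat.coprime_two_left.1 hcop)
        omega
      show (2 * (((o + 1) / 2 * i) % o)) % o = i
      rw [Nat.mul_mod, Nat.mod_mod, ← Nat.mul_mod, ← mul_assoc, h2, add_mul, one_mul,
        Nat.mul_add_mod_self_left, Nat.mod_eq_of_lt (mem_range.1 hi)]
  have hshift : ∀ {A : Type} [AddCommMonoid A] (f : ℕ → A),
      ∑ i ∈ range o, f ((2 * i) % o) = ∑ i ∈ range o, f i := fun f =>
    Finset.sum_bij (fun i _ => (2 * i) % o) (fun i hi => hbij.1 hi)
      (fun i hi k hk h => hbij.2.1 hi hk h) (fun i hi => by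
        obtain ⟨k, hk, h⟩ := hbij.2.2 hi; exact ⟨k, hk, h⟩) fun i _ => rfl
  have hmul : ∀ i ∈ range o, m s ((2 * i) % o) = m s i := by
    refine (Finset.sum_eq_sum_iff_of_le fun i _ => ?_).1 (hshift (m s))
    show finrank 𝕜 (LinearMap.range (act 𝕜 ρ.asModule (redA (eps M s ((2 * i) % o))))) ≤ _
    rw [hper s hodef.symm]
    exact mult_le hM ρ hfix hs i
  simp only [bval, ho2, ← hodef]
  show ∑ j ∈ range o, z j * (m (s ^ 2) j : localRing M) =
    ∑ j ∈ range o, z j * (m s j : localRing M)
  rw [← hshift (fun j => z j * (m (s ^ 2) j : localRing M)),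
    ← hshift (fun j => z j * (m s j : localRing M))]
  refine sum_congr rfl fun i hi => ?_
  rw [show m (s ^ 2) ((2 * i) % o) = m s i by
    show finrank 𝕜 (LinearMap.range (act 𝕜 ρ.asModule (redA (eps M (s ^ 2) ((2 * i) % o))))) = _
    rw [hper _ ho2, eps_sq hcop], hmul i hi]

end two

/-- **The lift.** -/
theorem exists_char {D : Type u} [Group D] [Finite D] (hodd : Odd (Nat.card D)) {E : Type v}
    [AddCommGroup E] [Finite E] [DistribMulAction D E] [FaithfulSMul D E]
    (h2 : ∀ e : E, 2 • e = 0) {n : ℕ} (hn : Nat.card E = 2 ^ n) :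
    ∃ χ : D → ℂ, IsCharacter D χ ∧ χ 1 = n ∧ (∀ g, χ g = χ 1 → g = 1) ∧
      (∀ g, χ (g ^ 2) = χ g) ∧
      ∀ (H : Subgroup D) [Fintype H], (∀ e : E, (∀ h ∈ H, h • e = e) → e = 0) →
        ∑ h : H, χ h = 0 := by
  haveI : Fact (Nat.Prime 2) := ⟨Nat.prime_two⟩
  letI := Fintype.ofFinite D
  letI : Module (ZMod 2) E := AddCommGroup.zmodModule h2
  haveI : FiniteDimensional (ZMod 2) E := Module.Finite.of_finite
  have hfr : finrank (ZMod 2) E = n := by
    have h := Module.natCard_eq_pow_finrank (K := ZMod 2) (V := E)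
    rw [hn, Nat.card_zmod] at h
    exact (Nat.pow_right_injective le_rfl h).symm
  obtain ⟨M, hM⟩ := CfsgLib.Block.exists_isPModular Nat.prime_two
  haveI := hM.2.1.isPrime
  haveI : CharP (Residue M) 2 := charP_residue hM
  let f : ZMod 2 →+* Residue M := ZMod.castHom dvd_rfl _
  let b : Module.Basis (ULift.{u} (Fin n)) (ZMod 2) E :=
    (Module.finBasisOfFinrankEq (ZMod 2) E hfr).reindex Equiv.ulift.symm
  let L : D →* Module.End (ZMod 2) E :=
    { toFun := fun g => (DistribSMul.toAddMonoidHom E g).toZModLinearMap 2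
      map_one' := LinearMap.ext fun e => one_smul D e
      map_mul' := fun g h => LinearMap.ext fun e => mul_smul g h e }
  let B : D →* Matrix (ULift.{u} (Fin n)) (ULift.{u} (Fin n)) (Residue M) :=
    f.mapMatrix.toMonoidHom.comp
      ((LinearMap.toMatrixAlgEquiv b).toMonoidHom.comp L)
  let ρ : Representation (Residue M) D (ULift.{u} (Fin n) → Residue M) :=
    (Matrix.toLinAlgEquiv' : Matrix (ULift.{u} (Fin n)) (ULift.{u} (Fin n)) (Residue M) ≃ₐ[Residue M]
      _).toMonoidHom.comp B
  have hB : ∀ g, LinearMap.toMatrix' (ρ g) = B g := fun g => LinearMap.toMatrix'_toLin' _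
  have hfix : ∀ g x y, (LinearMap.toMatrix' (ρ g) x y) ^ 2 = LinearMap.toMatrix' (ρ g) x y :=
    fun g x y => by
      rw [hB]
      show f _ ^ 2 = f _
      rw [← map_pow, ZMod.pow_card]
  have hG : ¬ 2 ∣ Nat.card D := by
    rw [← even_iff_two_dvd]; exact Nat.not_even_iff_odd.2 hodd
  have hs : ∀ s : D, ¬ 2 ∣ orderOf s := fun s h => hG (h.trans (orderOf_dvd_natCard s))
  haveI : FiniteDimensional (Residue M) ρ.asModule := inferInstance
  obtain ⟨hchar, hval⟩ := isLift hM hG _ ρ.asModule rfl
  have hone : bchar (G := D) 2 M ρ.asModule 1 = (n : ℂ) := by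
    rw [bchar_one hM, LinearEquiv.finrank_eq ρ.asModuleEquiv, Module.finrank_fintype_fun_eq_card]
    simp
  have havg : ∀ g : D, cval (bchar (G := D) 2 M ρ.asModule) (eps M g 0) =
      (orderOf g : ℂ)⁻¹ * ∑ i ∈ range (orderOf g), bchar (G := D) 2 M ρ.asModule (g ^ i) := by
    intro g
    have hc : ∀ z : D, ((eps M g 0).coeff z : ℂ) =
        ∑ i ∈ range (orderOf g), if g ^ i = z then (orderOf g : ℂ)⁻¹ else 0 := fun z => by
      simp only [eps, twist_pow, MonoidAlgebra.coeff_smul, MonoidAlgebra.coeff_sum,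
        Finsupp.smul_apply, Finsupp.finsetSum_apply, smul_eq_mul, mul_sum]
      push_cast
      refine sum_congr rfl fun i _ => ?_
      rw [MonoidAlgebra.coeff_single, Finsupp.single_apply,
        coe_lc (memLocalRing_natCast_inv hM (hs g))]
      by_cases h : g ^ i = z
      · rw [if_pos h, if_pos h, SubmonoidClass.coe_pow,
          coe_lc (memLocalRing_zeta_inv (orderOf_pos g) 0), pow_zero, inv_one, one_pow, mul_one]
      · rw [if_neg h, if_neg h]; simp
    simp only [cval, hc, sum_mul, mul_sum]
    rw [sum_comm]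
    refine sum_congr rfl fun i _ => ?_
    rw [Fintype.sum_eq_single (g ^ i) fun z hz => by rw [if_neg (Ne.symm hz), zero_mul], if_pos rfl]
  have hact : ∀ (g : D) (v : ρ.asModule), ρ.asModuleEquiv
      ((MonoidAlgebra.single g (1 : Residue M) : MonoidAlgebra (Residue M) D) • v) =
        (B g).mulVec (ρ.asModuleEquiv v) := fun g v => by
    rw [Representation.asModuleEquiv_map_smul, Representation.asAlgebraHom_single, one_smul]
    rfl
  have hid : ∀ g : D, redA (eps M g 0) * redA (eps M g 0) = redA (eps M g 0) := fun g => by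
    rw [← map_mul, eps_idem hM (hs g)]
  have hgmul : ∀ g : D, MonoidAlgebra.single g (1 : Residue M) * redA (eps M g 0) =
      redA (eps M g 0) := fun g => by
    have h1 : twist M g 0 * eps M g 0 = eps M g 0 := by
      have h := mul_geom_sum (twist M g 0) (orderOf g)
      rw [twist_pow_orderOf, sub_self, sub_mul, one_mul, sub_eq_zero] at h
      rw [eps, mul_smul_comm, h]
    have h2 := congrArg redA h1
    rw [map_mul] at h2
    convert h2 using 2
    refine coeff_ext fun z => ?_
    simp only [twist, coeff_redA, MonoidAlgebra.coeff_single, Finsupp.single_apply]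
    split_ifs
    · rw [show lc M ((zeta (orderOf g) ^ 0)⁻¹) = 1 from Subtype.ext (by
        rw [coe_lc (memLocalRing_zeta_inv (orderOf_pos g) 0), pow_zero, inv_one]; rfl), map_one]
    · rw [map_zero]
  refine ⟨bchar 2 M ρ.asModule, hchar, hone, fun g hg => ?_, fun g => ?_, ?_⟩
  · -- faithful
    obtain ⟨m, σ, hσ⟩ := hchar
    have hm : σ g = 1 := CfsgLib.Char.apply_eq_one_of_character_eq σ (by rw [hσ, hg, ← hσ, σ.char_one])
    have hsum : ∀ i : ℕ, bchar (G := D) 2 M ρ.asModule (g ^ i) = n := fun i => by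
      rw [← hone, ← hσ, Representation.character, Representation.character, map_pow, hm, one_pow,
        map_one σ]
    have hv := hval (eps M g 0) (eps_idem hM (hs g) 0)
    rw [havg, sum_congr rfl fun i _ => hsum i, sum_const, card_range, nsmul_eq_mul, ← mul_assoc,
      inv_mul_cancel₀ (Nat.cast_ne_zero.2 (orderOf_pos g).ne'), one_mul, Nat.cast_inj] at hv
    have hdim : finrank (Residue M) ρ.asModule = n := by
      rw [LinearEquiv.finrank_eq ρ.asModuleEquiv, Module.finrank_fintype_fun_eq_card]; simp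
    have hsurj : LinearMap.range (act (Residue M) ρ.asModule (redA (eps M g 0))) = ⊤ :=
      Submodule.eq_top_of_finrank_eq (hv.symm.trans hdim.symm)
    have hBg : B g = 1 := by
      refine Matrix.ext_of_mulVec_single fun i => ?_
      obtain ⟨u, hu⟩ := LinearMap.range_eq_top.1 hsurj
        (ρ.asModuleEquiv.symm (Pi.single i 1))
      rw [act_apply] at hu
      have h := hact g (ρ.asModuleEquiv.symm (Pi.single i 1))
      rw [← hu, ← mul_smul, hgmul, hu, LinearEquiv.apply_symm_apply] at h
      rw [← h, Matrix.one_mulVec]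
    have hLg : LinearMap.toMatrixAlgEquiv b (L g) = 1 := by
      ext x y
      have h := congrFun (congrFun hBg x) y
      change f (LinearMap.toMatrixAlgEquiv b (L g) x y) = _ at h
      rw [Matrix.one_apply] at h ⊢
      refine f.injective (h.trans ?_)
      split_ifs <;> simp
    refine FaithfulSMul.eq_of_smul_eq_smul (α := E) fun e => ?_
    have h1 : L g = 1 := (LinearMap.toMatrixAlgEquiv b).injective (hLg.trans (map_one _).symm)
    rw [one_smul]
    exact LinearMap.congr_fun h1 e
  · rw [bchar, bchar, if_neg (hs _), if_neg (hs _), bval_sq hM ρ hfix (hs g)]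
  · intro H _ hH
    have hH2 : ¬ 2 ∣ Fintype.card H := fun h =>
      hG (h.trans (by rw [← Nat.card_eq_fintype_card]; exact H.card_subgroup_dvd_card))
    have hcast : (Fintype.card H : ℂ) ≠ 0 := Nat.cast_ne_zero.2 Fintype.card_ne_zero
    set c : localRing M := lc M ((Fintype.card H : ℂ)⁻¹) with hcdef
    let S : LA M D := ∑ h : H, MonoidAlgebra.single (h : D) (1 : localRing M)
    have hS : ∀ k : H, MonoidAlgebra.single (k : D) (1 : localRing M) * S = S := fun k => by
      rw [show S = ∑ h : H, MonoidAlgebra.single (h : D) (1 : localRing M) from rfl, mul_sum]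
      exact Fintype.sum_equiv (Equiv.mulLeft k) _ _ fun h => by
        rw [MonoidAlgebra.single_mul_single, one_mul]; rfl
    have hSS : S * S = (Fintype.card H : localRing M) • S := by
      conv_lhs => arg 1; rw [show S = ∑ h : H, MonoidAlgebra.single (h : D) (1 : localRing M) from rfl]
      rw [sum_mul, sum_congr rfl fun k _ => hS k, sum_const, card_univ, Nat.cast_smul_eq_nsmul]
    have hcmul : c * (Fintype.card H : localRing M) = 1 := Subtype.ext (by
      push_cast
      rw [hcdef, coe_lc (memLocalRing_natCast_inv hM hH2), inv_mul_cancel₀ hcast])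
    have hb : (c • S) * (c • S) = c • S := by
      rw [smul_mul_smul_comm, hSS, smul_smul, mul_assoc, hcmul, mul_one]
    have hv := hval (c • S) hb
    have hl : cval (bchar (G := D) 2 M ρ.asModule) (c • S) =
        (Fintype.card H : ℂ)⁻¹ * ∑ h : H, bchar (G := D) 2 M ρ.asModule h := by
      have hc : ∀ z : D, ((c • S).coeff z : ℂ) =
          ∑ h : H, if (h : D) = z then (Fintype.card H : ℂ)⁻¹ else 0 := fun z => by
        simp only [S, MonoidAlgebra.coeff_smul, MonoidAlgebra.coeff_sum, Finsupp.smul_apply,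
          Finsupp.finsetSum_apply, smul_eq_mul, mul_sum]
        push_cast
        refine sum_congr rfl fun h _ => ?_
        rw [MonoidAlgebra.coeff_single, Finsupp.single_apply, hcdef,
          coe_lc (memLocalRing_natCast_inv hM hH2)]
        by_cases h' : (h : D) = z
        · rw [if_pos h', if_pos h']; simp
        · rw [if_neg h', if_neg h']; simp
      simp only [cval, hc, sum_mul, mul_sum]
      rw [sum_comm]
      refine sum_congr rfl fun i _ => ?_
      rw [Fintype.sum_eq_single (i : D) fun z hz => by rw [if_neg (Ne.symm hz), zero_mul], if_pos rfl]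
    rw [hl] at hv
    have hsum0 : (∑ h : H, LinearMap.toMatrixAlgEquiv b (L h)) = 0 := by
      rw [← map_sum, show (∑ h : H, L h) = 0 from LinearMap.ext fun e => ?_, map_zero]
      rw [LinearMap.sum_apply, LinearMap.zero_apply]
      refine hH _ fun k hk => ?_
      show k • ∑ h : H, (h : D) • e = ∑ h : H, (h : D) • e
      rw [Finset.smul_sum]
      exact Fintype.sum_equiv (Equiv.mulLeft (⟨k, hk⟩ : H)) _ _ fun h => (mul_smul k (h : D) e).symm
    have hB0 : (∑ h : H, B h) = 0 := by
      rw [show (∑ h : H, B h) = f.mapMatrix (∑ h : H, LinearMap.toMatrixAlgEquiv b (L h)) from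
        (map_sum f.mapMatrix _ _).symm, hsum0, map_zero]
    have h0 : LinearMap.range (act (Residue M) ρ.asModule (redA (c • S))) = ⊥ := by
      rw [Submodule.eq_bot_iff]
      rintro _ ⟨v, rfl⟩
      refine ρ.asModuleEquiv.injective ?_
      have hsingle : ∀ g : D,
          redA (MonoidAlgebra.single g (1 : localRing M)) = MonoidAlgebra.single g 1 := fun g =>
        coeff_ext fun z => by
          by_cases hgz : g = z
          · subst hgz; simp
          · simp [hgz]
      rw [act_apply, redA_smul, smul_assoc, map_sum, sum_smul, map_smul, map_sum, map_zero]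
      simp only [hsingle, hact, ← Matrix.sum_mulVec, hB0, Matrix.zero_mulVec, smul_zero]
    rw [h0, finrank_bot, Nat.cast_zero, mul_eq_zero] at hv
    exact hv.resolve_left (inv_ne_zero hcast)

end CfsgLib.OddTransitive
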