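import Cfsg.Agent.Recog.OddTransitive.Basic
import Cfsg.Agent.Recog.OddTransitive.Degree
import Cfsg.Agent.Recog.OddTransitive.Lift
import Cfsg.Agent.Zsigmondy.PrimitivePart

/-!
# Groups of odd order transitive on the nonzero vectors of an elementary abelian 2-group

Such a group has a normal subgroup of prime order with cyclic fixed-point-free centraliser, so
its Fitting subgroup is cyclic and fixed-point-free with abelian quotient. The argument does not
assume solvability: the prime comes from a primitive divisor of `2 ^ n - 1` and the normality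
from small character degrees.
-/

set_option autoImplicit false
set_option linter.style.haveILetI false
set_option linter.unusedSectionVars false

namespace CfsgLib.OddTransitive

open Cfsg

universe u v

/-- The conclusion: a normal subgroup of prime order with cyclic free centraliser. -/
def HasPrimeKernel (D : Type u) [Group D] (E : Type v) [AddCommGroup E] [DistribMulAction D E] :
    Prop :=
  ∃ (z : D) (p : ℕ), p.Prime ∧ orderOf z = p ∧ (Subgroup.zpowers z).Normal ∧
    IsCyclic (Subgroup.centralizer ({z} : Set D)) ∧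
      IsFree (Subgroup.centralizer ({z} : Set D)) E

/-- In a cyclic group an element killed by the order of `x` is a power of `x`. -/
theorem mem_zpowers_of_cyclic {C : Type u} [Group C] [Finite C] [IsCyclic C] {x y : C}
    (h : y ^ orderOf x = 1) : y ∈ Subgroup.zpowers x := by
  classical
  haveI := Fintype.ofFinite C
  let A : Finset C := Finset.univ.filter fun a => a ^ orderOf x = 1
  let B : Finset C := Finset.univ.filter fun a => a ∈ Subgroup.zpowers x
  have hle : B ⊆ A := fun a ha => by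
    simp only [B, A, Finset.mem_filter, Finset.mem_univ, true_and] at ha ⊢
    obtain ⟨k, rfl⟩ := Subgroup.mem_zpowers_iff.1 ha
    rw [← zpow_natCast, ← zpow_mul, mul_comm, zpow_mul, zpow_natCast, pow_orderOf_eq_one, one_zpow]
  have hB : B.card = orderOf x := by
    rw [← Nat.card_zpowers x, Nat.card_eq_fintype_card, Fintype.card_subtype]
  have hA : A.card ≤ B.card := hB ▸ IsCyclic.card_pow_eq_one_le (orderOf_pos x)
  have := Finset.eq_of_subset_of_card_le hle hA
  have hy : y ∈ A := by simp [A, h]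
  rw [← this] at hy
  simpa [B] using hy

variable {D : Type u} [Group D] [Finite D] {E : Type v} [AddCommGroup E] [Finite E]
  [DistribMulAction D E] [FaithfulSMul D E] [Nontrivial E]

theorem centralizer_singleton_eq (x : D) :
    Subgroup.centralizer ((Subgroup.zpowers x : Subgroup D) : Set D) =
      Subgroup.centralizer ({x} : Set D) := by
  rw [Subgroup.zpowers_eq_closure, Subgroup.centralizer_closure]

theorem ne_two_of_orderOf (hodd : Odd (Nat.card D)) {x : D} {p : ℕ} (hx : orderOf x = p) :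
    p ≠ 2 := fun h =>
  Nat.not_even_iff_odd.2 hodd (even_iff_two_dvd.2 (h ▸ hx ▸ orderOf_dvd_natCard x))

/-- An element whose order is a primitive prime has cyclic free centraliser. -/
theorem centralizer_primitive (hodd : Odd (Nat.card D)) {n : ℕ} (hn : Nat.card E = 2 ^ n) {x : D}
    {p : ℕ} [Fact p.Prime] (hx : orderOf x = p) (hord : ∀ i, 0 < i → i < n → ¬ p ∣ 2 ^ i - 1) :
    IsCyclic (Subgroup.centralizer ({x} : Set D)) ∧
      IsFree (Subgroup.centralizer ({x} : Set D)) E := by
  have hfree := free_of_primitive (E := E) hn hx (ne_two_of_orderOf hodd hx) hord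
  have h := centralizer_of_irred (isIrred_of_free hn hfree fun k hk hkn h =>
    hord k hk hkn (by rwa [Nat.card_zpowers, hx] at h))
  rwa [centralizer_singleton_eq] at h

/-- A normal subgroup of primitive prime order. -/
theorem kernel_of_primitive (hodd : Odd (Nat.card D)) {n : ℕ} (hn : Nat.card E = 2 ^ n) {x : D}
    {p : ℕ} [Fact p.Prime] (hx : orderOf x = p) (hord : ∀ i, 0 < i → i < n → ¬ p ∣ 2 ^ i - 1)
    (hnor : (Subgroup.zpowers x).Normal) : HasPrimeKernel D E :=
  ⟨x, p, Fact.out, hx, hnor, centralizer_primitive hodd hn hx hord⟩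

/-- A normal Sylow subgroup for a primitive prime. -/
theorem kernel_of_sylow_normal (hodd : Odd (Nat.card D)) {n : ℕ} (hn : Nat.card E = 2 ^ n)
    {p : ℕ} [Fact p.Prime] (hord : ∀ i, 0 < i → i < n → ¬ p ∣ 2 ^ i - 1)
    (hdvd : p ∣ Nat.card D) (P : Sylow p D) (hP : (P : Subgroup D).Normal) :
    HasPrimeKernel D E := by
  have hp : p.Prime := Fact.out
  obtain ⟨a, ha⟩ := P.isPGroup'.exists_card_eq
  have hnt : Nontrivial (P : Subgroup D) := by
    haveI := hP
    have h1 : p ∣ Nat.card (P : Subgroup D) := P.dvd_card_of_dvd_card hdvd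
    rw [← Finite.one_lt_card_iff_nontrivial]
    exact lt_of_lt_of_le hp.one_lt (Nat.le_of_dvd Nat.card_pos h1)
  haveI := hnt
  haveI := P.isPGroup'.center_nontrivial
  haveI : Fintype (Subgroup.center (P : Subgroup D)) := Fintype.ofFinite _
  have hzc : p ∣ Nat.card (Subgroup.center (P : Subgroup D)) := by
    obtain ⟨k, hk⟩ := (P.isPGroup'.to_subgroup (Subgroup.center (P : Subgroup D))).exists_card_eq
    have h1 : 1 < Nat.card (Subgroup.center (P : Subgroup D)) := Finite.one_lt_card
    rcases Nat.eq_zero_or_pos k with rfl | hk0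
    · rw [hk, pow_zero] at h1; exact absurd h1 (lt_irrefl 1)
    · exact hk ▸ dvd_pow_self p hk0.ne'
  obtain ⟨z, hz⟩ := exists_prime_orderOf_dvd_card' p hzc
  set x : D := ((z : (P : Subgroup D)) : D) with hxdef
  have hx : orderOf x = p := by rw [hxdef, Subgroup.orderOf_coe, Subgroup.orderOf_coe, hz]
  refine kernel_of_primitive hodd hn hx hord ⟨fun y hy g => ?_⟩
  obtain ⟨hcyc, -⟩ := centralizer_primitive (E := E) hodd hn hx hord
  haveI := hcyc
  have hPC : (P : Subgroup D) ≤ Subgroup.centralizer ({x} : Set D) := fun q hq =>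
    Subgroup.mem_centralizer_singleton_iff.2
      (congrArg Subtype.val (Subgroup.mem_center_iff.1 z.2 ⟨q, hq⟩))
  have hxP : x ∈ (P : Subgroup D) := (z : (P : Subgroup D)).2
  obtain ⟨k, rfl⟩ := Subgroup.mem_zpowers_iff.1 hy
  rw [← conj_zpow]
  refine Subgroup.zpow_mem _ ?_ k
  have h : (⟨g * x * g⁻¹, hPC (hP.conj_mem x hxP g)⟩ : Subgroup.centralizer ({x} : Set D)) ∈
      Subgroup.zpowers ⟨x, hPC hxP⟩ := mem_zpowers_of_cyclic (by
    refine Subtype.ext ?_
    rw [SubmonoidClass.coe_pow, ← Subgroup.orderOf_coe, conj_pow]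
    simp [pow_orderOf_eq_one])
  obtain ⟨j, hj⟩ := Subgroup.mem_zpowers_iff.1 h
  exact Subgroup.mem_zpowers_iff.2 ⟨j, by simpa using congrArg Subtype.val hj⟩

theorem le_sub_one_of_primitive {p n : ℕ} (hp : p.Prime) (hp2 : p ≠ 2)
    (hord : ∀ i, 0 < i → i < n → ¬ p ∣ 2 ^ i - 1) : n ≤ p - 1 := by
  by_contra hlt
  push Not at hlt
  have hpos : 0 < p - 1 := by have := hp.two_le; omega
  refine hord (p - 1) hpos hlt ?_
  have hcop : Nat.Coprime 2 p := (Nat.coprime_primes Nat.prime_two hp).2 (Ne.symm hp2)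
  have h := Nat.ModEq.pow_totient hcop
  rw [Nat.totient_prime hp] at h
  exact (Nat.modEq_iff_dvd' Nat.one_le_two_pow).1 h.symm

/-- **The main case**: a primitive prime which is large, or divides the order twice. -/
theorem kernel_of_large (hodd : Odd (Nat.card D)) (h2 : ∀ e : E, 2 • e = 0) {n : ℕ}
    (hn : Nat.card E = 2 ^ n) {p : ℕ} [Fact p.Prime]
    (hord : ∀ i, 0 < i → i < n → ¬ p ∣ 2 ^ i - 1) (hdvd : p ∣ Nat.card D)
    (hlarge : p ^ 2 ∣ Nat.card D ∨ ∀ d : ℕ, Odd d → (2 * d ≤ n ∨ d = n) → 2 * d + 1 < p) :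
    HasPrimeKernel D E := by
  classical
  have hp : p.Prime := Fact.out
  haveI := Fintype.ofFinite D
  obtain ⟨P⟩ : Nonempty (Sylow p D) := inferInstance
  refine kernel_of_sylow_normal hodd hn hord hdvd P ?_
  obtain ⟨χ, hχ, hχ1, hfaith, hsq, hfix⟩ := exists_char hodd h2 hn
  obtain ⟨x, hx⟩ := exists_prime_orderOf_dvd_card' p hdvd
  have hp2 := ne_two_of_orderOf hodd hx
  have hle := le_sub_one_of_primitive hp hp2 hord
  by_cases hsqd : p ^ 2 ∣ Nat.card D
  · -- an element of prime order has abelian centraliser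
    have hab : ∀ y ∈ (P : Subgroup D), y ≠ 1 → ∀ g h : D,
        g ∈ Subgroup.centralizer ({y} : Set D) → h ∈ Subgroup.centralizer ({y} : Set D) →
          g * h = h * g := by
      intro y hy hy1 g h hg hh
      obtain ⟨k, hk⟩ := P.isPGroup'.exists_card_eq
      have hyd : orderOf y ∣ p ^ k := by
        rw [← hk, show y = ((⟨y, hy⟩ : (P : Subgroup D)) : D) from rfl, Subgroup.orderOf_coe]
        exact orderOf_dvd_natCard _
      obtain ⟨i, -, hi⟩ := (Nat.dvd_prime_pow hp).1 hyd
      have hi0 : i ≠ 0 := fun h0 => hy1 (orderOf_eq_one_iff.1 (by rw [hi, h0, pow_zero]))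
      have hz : orderOf (y ^ p ^ (i - 1)) = p := by
        rw [orderOf_pow' _ (pow_ne_zero _ hp.ne_zero), hi,
          Nat.gcd_eq_right (pow_dvd_pow p (Nat.sub_le i 1)), Nat.pow_div (Nat.sub_le i 1) hp.pos,
          show i - (i - 1) = 1 by omega, pow_one]
      obtain ⟨hcyc, -⟩ := centralizer_primitive (E := E) hodd hn hz hord
      have hmem : ∀ w, w ∈ Subgroup.centralizer ({y} : Set D) →
          w ∈ Subgroup.centralizer ({y ^ p ^ (i - 1)} : Set D) := fun w hw =>
        Subgroup.mem_centralizer_singleton_iff.2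
          ((Commute.pow_right (Subgroup.mem_centralizer_singleton_iff.1 hw) _).eq)
      haveI := hcyc
      letI := IsCyclic.commGroup (α := Subgroup.centralizer ({y ^ p ^ (i - 1)} : Set D))
      exact congrArg Subtype.val (mul_comm (⟨g, hmem g hg⟩ :
        Subgroup.centralizer ({y ^ p ^ (i - 1)} : Set D)) ⟨h, hmem h hh⟩)
    -- the Sylow subgroup is abelian
    have hPab : ∀ g ∈ (P : Subgroup D), ∀ h ∈ (P : Subgroup D), g * h = h * g := by
      haveI : Nontrivial (P : Subgroup D) := by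
        rw [← Finite.one_lt_card_iff_nontrivial]
        exact lt_of_lt_of_le hp.one_lt
          (Nat.le_of_dvd Nat.card_pos (P.dvd_card_of_dvd_card hdvd))
      haveI := P.isPGroup'.center_nontrivial
      obtain ⟨z, hz⟩ := exists_ne (1 : Subgroup.center (P : Subgroup D))
      intro g hg h hh
      refine hab _ (z : (P : Subgroup D)).2
        (fun h1 => hz (Subtype.ext (Subtype.ext h1))) g h ?_ ?_ <;>
        refine Subgroup.mem_centralizer_singleton_iff.2 ?_
      · exact congrArg Subtype.val (Subgroup.mem_center_iff.1 z.2 ⟨g, hg⟩)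
      · exact congrArg Subtype.val (Subgroup.mem_center_iff.1 z.2 ⟨h, hh⟩)
    refine CfsgLib.Char.SmallTI.normal_of_faithful hp (Nat.card D) rfl P (fun y hy hy1 => ?_) χ hχ
      hfaith n hχ1 ?_
    · refine le_antisymm (fun g hg => ?_) (Subgroup.centralizer_le (Set.singleton_subset_iff.2 hy))
      rw [Subgroup.mem_centralizer_iff]
      intro q hq
      exact (hab y hy hy1 g q hg (Subgroup.mem_centralizer_singleton_iff.2 (hPab q hq y hy))).symm
    · have h1 : p ^ 2 ≤ Nat.card (P : Subgroup D) :=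
        Nat.le_of_dvd Nat.card_pos (P.pow_dvd_card_of_pow_dvd_card hsqd)
      have h2 : n + 1 ≤ p := by have := hp.two_le; omega
      have h3 : n * n + 1 < p ^ 2 := by
        have : (n + 1) ^ 2 ≤ p ^ 2 := Nat.pow_le_pow_left h2 2
        have hn1 : 0 < n := by
          by_contra hn0
          rw [Nat.eq_zero_of_not_pos hn0, pow_zero] at hn
          have := (Finite.one_lt_card (α := E))
          omega
        nlinarith
      omega
  refine sylow_normal hχ hfaith P fun φ hφ hne d hd => ?_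
  have hfree := free_of_primitive (E := E) hn hx hp2 hord
  haveI := Fintype.ofFinite (Subgroup.zpowers x)
  obtain ⟨h, hh, hmv⟩ := no_trivial hχ hφ hne (Subgroup.zpowers x) (hfix _ fun e he =>
    hfree x (Subgroup.mem_zpowers x)
      (fun h1 => by rw [h1, orderOf_one] at hx; exact hp.one_lt.ne hx) e
      (he x (Subgroup.mem_zpowers x)))
  have hmvx : φ x ≠ φ 1 := fun heq => hmv (by
    have hle : Subgroup.zpowers x ≤ CfsgLib.Char.kerSubgroup
        (CfsgLib.Char.IsIrrCharacter.isCharacter hφ) := Subgroup.zpowers_le.2 heq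
    exact hle hh)
  refine hlarge.resolve_left hsqd d
    (hodd.of_dvd_nat (CfsgLib.Char.IsIrrCharacter.degree_dvd_card hφ hd)) ?_
  rcases constituent_bound hodd hχ hχ1 hsq hφ hne hd hx hmvx hord with h' | ⟨h1, h2, -, -⟩
  · exact Or.inl h'
  · exact Or.inr (le_antisymm h2 h1)

/-- The Sylow subgroup is the whole of the small cases. -/
theorem sylow_normal_of_small {G : Type u} [Group G] [Finite G] {p : ℕ} [Fact p.Prime]
    (P : Sylow p G) {c : ℕ} (hc : Nat.card G ∣ c) (hcheck : ∀ k ∈ c.divisors, k % p = 1 → k = 1)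
    (hc0 : c ≠ 0) : (P : Subgroup G).Normal := by
  have h1 : Nat.card (Sylow p G) ∣ c :=
    (P.card_dvd_index.trans (Subgroup.index_dvd_card _)).trans hc
  have h2 : Nat.card (Sylow p G) = 1 := by
    refine hcheck _ (Nat.mem_divisors.2 ⟨h1, hc0⟩) ?_
    rw [show Nat.card (Sylow p G) % p = 1 % p from card_sylow_modEq_one p G,
      Nat.one_mod_eq_one.2 (Fact.out : p.Prime).one_lt.ne']
  rw [P.card_eq_index_normalizer, Subgroup.index_eq_one] at h2
  exact Subgroup.normalizer_eq_top_iff.1 h2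

/-- **The imprimitive prime case**: a normal subgroup of order `p`, with `2` of order `h` modulo
`p` and `n = 2 h`. -/
theorem kernel_of_half (hodd : Odd (Nat.card D)) (h2 : ∀ e : E, 2 • e = 0)
    (htrans : ∀ a b : E, a ≠ 0 → b ≠ 0 → ∃ d : D, d • a = b) {h : ℕ} (hh : 0 < h)
    (hn : Nat.card E = 2 ^ (2 * h)) {y : D} {p : ℕ} [Fact p.Prime] (hy : orderOf y = p)
    (hnor : (Subgroup.zpowers y).Normal) (hord : ∀ i, 0 < i → i < h → ¬ p ∣ 2 ^ i - 1)
    {a m : ℕ} (hpm : p - 1 = 2 ^ a * m) (hm : (2 ^ h - 1) * m < 2 ^ (2 * h) - 1) :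
    HasPrimeKernel D E := by
  classical
  have hp : p.Prime := Fact.out
  haveI := Fintype.ofFinite D
  haveI := hnor
  have hy1 : y ≠ 1 := fun h0 => by rw [h0, orderOf_one] at hy; exact hp.one_lt.ne hy
  have hfreeY : IsFree (Subgroup.zpowers y) E :=
    free_of_normal_comm h2 htrans _ fun g hg k hk => by
      obtain ⟨i, rfl⟩ := Subgroup.mem_zpowers_iff.1 hg
      obtain ⟨j, rfl⟩ := Subgroup.mem_zpowers_iff.1 hk
      exact (Commute.refl y).zpow_zpow i j
  obtain ⟨χ, hχ, hχ1, hfaith, hsq, hfix⟩ := exists_char hodd h2 hn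
  set C := Subgroup.centralizer ({y} : Set D) with hC
  have hCn : C.Normal := by
    rw [hC, ← centralizer_singleton_eq]; exact Subgroup.normal_centralizer
  haveI := hCn
  have hCab : ∀ g ∈ C, ∀ k ∈ C, g * k = k * g := fun g hg k hk =>
    commute_centralizer hodd hχ hfaith hsq hχ1 hh hy hord (hfix _ fun e he =>
      hfreeY y (Subgroup.mem_zpowers y) hy1 e (he y (Subgroup.mem_zpowers y))) hg hk
  have hCfree := free_of_normal_comm h2 htrans C hCab
  -- its index
  have hidx : C.index ∣ m := by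
    have hY : IsCyclic (Subgroup.zpowers y) := inferInstance
    have h1 : C.index ∣ Nat.card (MulAut (Subgroup.zpowers y)) := by
      rw [hC, ← centralizer_singleton_eq]
      have key := Subgroup.card_dvd_of_injective _
        (QuotientGroup.kerLift_injective (MulAut.conjNormal (H := Subgroup.zpowers y) (G := D)))
      rw [show (MulAut.conjNormal (H := Subgroup.zpowers y) (G := D)).ker =
        Subgroup.centralizer ((Subgroup.zpowers y : Subgroup D) : Set D) from ?_,
        ← Subgroup.index_eq_card] at key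
      · exact key
      · ext g
        rw [MonoidHom.mem_ker, Subgroup.mem_centralizer_iff]
        refine ⟨fun hg w hw => ?_, fun hg => MulEquiv.ext fun w => Subtype.ext ?_⟩
        · have h := congrArg Subtype.val (DFunLike.congr_fun hg ⟨w, hw⟩)
          rw [MulAut.conjNormal_apply] at h
          exact (mul_inv_eq_iff_eq_mul.1 h).symm
        · rw [MulAut.conjNormal_apply, ← hg w w.2, mul_inv_cancel_right]
          rfl
    rw [hY.card_mulAut, Nat.card_zpowers, hy, Nat.totient_prime hp, hpm] at h1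
    refine Nat.Coprime.dvd_of_dvd_mul_left ?_ h1
    exact Nat.Coprime.pow_right _ (Nat.Coprime.symm (Nat.coprime_two_left.2
      (hodd.of_dvd_nat (Subgroup.index_dvd_card C))))
  have hbig : 2 ^ h - 1 < Nat.card C := by
    have h1 : 2 ^ (2 * h) - 1 ∣ Nat.card D := hn ▸ card_sub_one_dvd htrans
    have h2' : Nat.card D ≤ Nat.card C * m := by
      rw [← C.card_mul_index]
      have hm0 : 0 < m := by
        rcases Nat.eq_zero_or_pos m with rfl | h0
        · have := hp.two_le; omega
        · exact h0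
      exact Nat.mul_le_mul_left _ (Nat.le_of_dvd hm0 hidx)
    have h3 := Nat.le_of_dvd Nat.card_pos h1
    by_contra hle
    push Not at hle
    have := Nat.mul_le_mul_right m hle
    omega
  have hirr : IsIrred C E := by
    refine isIrred_of_free hn hCfree fun k hk hkn hdvd => ?_
    have h1 : Nat.card C ∣ 2 ^ (2 * h) - 1 := by
      have := card_dvd_of_free_top hCfree
      rwa [hn] at this
    have h2' := Nat.dvd_gcd hdvd h1
    rw [Nat.pow_sub_one_gcd_pow_sub_one] at h2'
    obtain ⟨c, hc⟩ := Nat.gcd_dvd_right k (2 * h)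
    set g := Nat.gcd k (2 * h) with hg
    have hgk : g ≤ k := Nat.le_of_dvd hk (Nat.gcd_dvd_left _ _)
    have hg0 : 0 < g := Nat.gcd_pos_of_pos_left _ hk
    have hgh : g ≤ h := by
      rcases c with _ | _ | c
      · omega
      · omega
      · rw [Nat.mul_add, Nat.mul_add] at hc; omega
    have hlt : 1 < 2 ^ g := Nat.one_lt_two_pow hg0.ne'
    have h4 := Nat.le_of_dvd (by omega) h2'
    have h5 : 2 ^ g ≤ 2 ^ h := Nat.pow_le_pow_right (by norm_num) hgh
    omega
  obtain ⟨hcyc, -⟩ := centralizer_of_irred hirr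
  refine ⟨y, p, hp, hy, hnor, ?_, hCfree⟩
  haveI := hcyc
  exact Subgroup.isCyclic_of_le (show C ≤ Subgroup.centralizer (C : Set D) from
    fun g hg => Subgroup.mem_centralizer_iff.2 fun k hk => hCab k hk g hg)

/-- A normal abelian Sylow subgroup of order prime. -/
theorem exists_normal_of_sylow (h2 : ∀ e : E, 2 • e = 0)
    (htrans : ∀ a b : E, a ≠ 0 → b ≠ 0 → ∃ d : D, d • a = b) {n : ℕ} (hn : Nat.card E = 2 ^ n)
    {p : ℕ} [Fact p.Prime] (hdvd : p ∣ Nat.card D) (P : Sylow p D) (hP : (P : Subgroup D).Normal)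
    (hab : ∀ g ∈ (P : Subgroup D), ∀ h ∈ (P : Subgroup D), g * h = h * g)
    (hsq : ¬ p ^ 2 ∣ 2 ^ n - 1) :
    p ∣ 2 ^ n - 1 ∧ ∃ y : D, orderOf y = p ∧ (Subgroup.zpowers y).Normal := by
  have hp : p.Prime := Fact.out
  haveI := hP
  have hfree := free_of_normal_comm h2 htrans _ hab
  have hd := card_dvd_of_free_top hfree
  rw [hn] at hd
  have h1 : p ∣ Nat.card (P : Subgroup D) := P.dvd_card_of_dvd_card hdvd
  refine ⟨h1.trans hd, ?_⟩
  obtain ⟨a, ha⟩ := P.isPGroup'.exists_card_eq
  have ha1 : a ≤ 1 := by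
    by_contra hlt
    exact hsq ((pow_dvd_pow p (by omega : 2 ≤ a)).trans (ha ▸ hd))
  obtain ⟨y, hy⟩ := exists_prime_orderOf_dvd_card' (G := (P : Subgroup D)) p h1
  have hyo : orderOf (y : D) = p := by rw [Subgroup.orderOf_coe, hy]
  refine ⟨y, hyo, ?_⟩
  rw [Subgroup.eq_of_le_of_card_ge (Subgroup.zpowers_le.2 y.2) (by
    rw [Nat.card_zpowers, hyo, ha]
    exact (pow_le_pow_right₀ hp.one_le ha1).trans_eq (pow_one p))]
  exact hP

/-- Degrees at most `n` suffice for a prime above `2 n + 1`. -/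
theorem sylow_normal_of_big (hodd : Odd (Nat.card D)) (h2 : ∀ e : E, 2 • e = 0) {n : ℕ}
    (hn : Nat.card E = 2 ^ n) {p : ℕ} [Fact p.Prime] (hp : 2 * n + 1 < p) (P : Sylow p D) :
    (P : Subgroup D).Normal ∧ ∀ g ∈ (P : Subgroup D), ∀ h ∈ (P : Subgroup D), g * h = h * g := by
  haveI := Fintype.ofFinite D
  obtain ⟨χ, hχ, hχ1, hfaith, -, -⟩ := exists_char hodd h2 hn
  obtain ⟨m, ρ, hρ⟩ := hχ
  have hm : m = n := by
    rw [← hρ, ρ.char_one, Module.finrank_fin_fun, Nat.cast_inj] at hχ1
    exact hχ1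
  subst hm
  have hinj : Function.Injective ρ := (injective_iff_map_eq_one _).2 fun g hg => hfaith g (by
    rw [← hρ, Representation.character, Representation.character, hg, map_one ρ])
  exact ⟨sylow_normal_of_deg ρ hinj hp P,
    CfsgLib.Char.commute_of_degree_lt ρ hinj (by omega) _ P.isPGroup'⟩

/-- A large prime with `n = 2 h`. -/
theorem kernel_of_half_big (hodd : Odd (Nat.card D)) (h2 : ∀ e : E, 2 • e = 0)
    (htrans : ∀ a b : E, a ≠ 0 → b ≠ 0 → ∃ d : D, d • a = b) {h : ℕ} (hh : 0 < h)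
    (hn : Nat.card E = 2 ^ (2 * h)) {p : ℕ} [Fact p.Prime]
    (hord : ∀ i, 0 < i → i < h → ¬ p ∣ 2 ^ i - 1) (hdvd : p ∣ 2 ^ (2 * h) - 1)
    (hsq : ¬ p ^ 2 ∣ 2 ^ (2 * h) - 1) (hbig : 2 * (2 * h) + 1 < p) {a m : ℕ}
    (hpm : p - 1 = 2 ^ a * m) (hm : (2 ^ h - 1) * m < 2 ^ (2 * h) - 1) :
    HasPrimeKernel D E := by
  have hpD : p ∣ Nat.card D := hdvd.trans (hn ▸ card_sub_one_dvd htrans)
  obtain ⟨P⟩ : Nonempty (Sylow p D) := inferInstance
  obtain ⟨hP, hab⟩ := sylow_normal_of_big hodd h2 hn hbig P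
  obtain ⟨-, y, hy, hnor⟩ := exists_normal_of_sylow h2 htrans hn hpD P hP hab hsq
  exact kernel_of_half hodd h2 htrans hh hn hy hnor hord hpm hm

theorem odd_part_dvd (hodd : Odd (Nat.card D)) {a c : ℕ} (h : Nat.card D ∣ 2 ^ a * c) :
    Nat.card D ∣ c :=
  (Nat.Coprime.pow_right a (Nat.Coprime.symm (Nat.coprime_two_left.2 hodd))).dvd_of_dvd_mul_left h

/-- The case `n = 6`. -/
theorem kernel_six (hodd : Odd (Nat.card D)) (h2 : ∀ e : E, 2 • e = 0)
    (htrans : ∀ a b : E, a ≠ 0 → b ≠ 0 → ∃ d : D, d • a = b) (hn : Nat.card E = 2 ^ 6) :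
    HasPrimeKernel D E := by
  classical
  have hgl : Nat.card D ∣ 3 ^ 4 * 7 ^ 2 * 5 * 31 := by
    refine odd_part_dvd hodd (a := 15) ((card_dvd_gl h2 hn).trans (dvd_of_eq ?_))
    decide +kernel
  have h63 : 63 ∣ Nat.card D := by
    have h := card_sub_one_dvd htrans
    rwa [hn] at h
  haveI h7 : Fact (Nat.Prime 7) := ⟨by norm_num⟩
  -- no elements of order 31
  have h31 : ¬ 31 ∣ Nat.card D := by
    haveI : Fact (Nat.Prime 31) := ⟨by norm_num⟩
    intro h31
    obtain ⟨S⟩ : Nonempty (Sylow 31 D) := inferInstance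
    obtain ⟨hS, hab⟩ := sylow_normal_of_big hodd h2 hn (p := 31) (by norm_num) S
    obtain ⟨h, -⟩ := exists_normal_of_sylow h2 htrans hn h31 S hS hab (by norm_num)
    norm_num at h
  have hdvd : Nat.card D ∣ 3 ^ 4 * 7 ^ 2 * 5 :=
    (((by norm_num : Nat.Prime 31).coprime_iff_not_dvd.2 h31).symm.dvd_of_dvd_mul_right hgl)
  -- the Sylow `7`-subgroup
  obtain ⟨P⟩ : Nonempty (Sylow 7 D) := inferInstance
  have hP : (P : Subgroup D).Normal := by
    by_cases h5 : 5 ∣ Nat.card D
    swap
    · exact sylow_normal_of_small P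
        ((((Nat.Prime.coprime_iff_not_dvd (by norm_num : Nat.Prime 5)).2 h5).symm).dvd_of_dvd_mul_right
          hdvd |>.trans (dvd_of_eq (by norm_num : 3 ^ 4 * 7 ^ 2 = 3969)))
        (by decide +kernel) (by norm_num)
    haveI : Fact (Nat.Prime 5) := ⟨by norm_num⟩
    obtain ⟨F⟩ : Nonempty (Sylow 5 D) := inferInstance
    have hF : Nat.card (F : Subgroup D) = 5 := by
      obtain ⟨a, ha⟩ := F.isPGroup'.exists_card_eq
      have ha1 : a ≤ 1 := by
        by_contra hlt
        have h25 : 5 ^ 2 ∣ 3 ^ 4 * 7 ^ 2 * 5 :=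
          ((pow_dvd_pow 5 (by omega : 2 ≤ a)).trans
            (ha ▸ Subgroup.card_subgroup_dvd_card _)).trans hdvd
        norm_num at h25
      have h5F := F.dvd_card_of_dvd_card h5
      rw [ha] at h5F ⊢
      interval_cases a
      · norm_num at h5F
      · norm_num
    haveI hFc : IsCyclic (F : Subgroup D) := isCyclic_of_prime_card hF
    have hNC : Subgroup.normalizer ((F : Subgroup D) : Set D) ≤
        Subgroup.centralizer ((F : Subgroup D) : Set D) := by
      have key := Subgroup.card_dvd_of_injective _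
        (QuotientGroup.kerLift_injective (F : Subgroup D).normalizerMonoidHom)
      rw [Subgroup.normalizerMonoidHom_ker, ← Subgroup.index, ← Subgroup.relIndex,
        hFc.card_mulAut, hF, Nat.totient_prime (by norm_num)] at key
      refine Subgroup.relIndex_eq_one.1 (Nat.eq_one_of_dvd_coprimes ?_
        ((Subgroup.relIndex_dvd_card _ _).trans (Subgroup.card_subgroup_dvd_card _))
        (key.trans (dvd_of_eq (by norm_num : 5 - 1 = 2 ^ 2))))
      exact Nat.Coprime.pow_right _ (Nat.Coprime.symm (Nat.coprime_two_left.2 hodd))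
    set K := (MonoidHom.transferSylow F hNC).ker with hK
    have hcompl : Subgroup.IsComplement' K (F : Subgroup D) :=
      MonoidHom.ker_transferSylow_isComplement' F hNC
    have hKc : Nat.card K * 5 = Nat.card D := by rw [← hF]; exact hcompl.card_mul
    have hKd : Nat.card K ∣ 3969 :=
      Nat.dvd_of_mul_dvd_mul_right (by norm_num : 0 < 5)
        ((hKc ▸ hdvd : Nat.card K * 5 ∣ 3 ^ 4 * 7 ^ 2 * 5).trans (dvd_of_eq (by norm_num)))
    obtain ⟨Q⟩ : Nonempty (Sylow 7 K) := inferInstance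
    have hQ := sylow_normal_of_small Q hKd (by decide +kernel) (by norm_num)
    haveI : (Q : Subgroup K).Characteristic := Sylow.characteristic_of_normal Q hQ
    have hQn : ((Q : Subgroup K).map K.subtype).Normal := inferInstance
    have hQp : IsPGroup 7 ((Q : Subgroup K).map K.subtype) := Q.isPGroup'.map _
    obtain ⟨S, hS⟩ := hQp.exists_le_sylow
    have hcard : Nat.card (S : Subgroup D) ≤ Nat.card ((Q : Subgroup K).map K.subtype) := by
      rw [Subgroup.card_map_of_injective K.subtype_injective, S.card_eq_multiplicity,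
        Q.card_eq_multiplicity]
      refine Nat.pow_le_pow_right (by norm_num) (le_of_eq ?_)
      rw [← hKc, Nat.factorization_mul Nat.card_pos.ne' (by norm_num)]
      simp [Nat.Prime.factorization (by norm_num : Nat.Prime 5)]
    have hSn : (S : Subgroup D).Normal := by
      rw [← Subgroup.eq_of_le_of_card_ge hS hcard]; exact hQn
    haveI := Sylow.unique_of_normal S hSn
    rwa [Subsingleton.elim P S]
  have hab : ∀ g ∈ (P : Subgroup D), ∀ h ∈ (P : Subgroup D), g * h = h * g := by
    haveI := Fintype.ofFinite D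
    obtain ⟨χ, hχ, hχ1, hfaith, -, -⟩ := exists_char hodd h2 hn
    obtain ⟨m, ρ, hρ⟩ := hχ
    have hm : m = 6 := by
      rw [← hρ, ρ.char_one, Module.finrank_fin_fun, Nat.cast_inj] at hχ1
      exact hχ1
    subst hm
    exact CfsgLib.Char.commute_of_degree_lt ρ ((injective_iff_map_eq_one _).2 fun g hg =>
      hfaith g (by
        rw [← hρ, Representation.character, Representation.character, hg, map_one ρ]))
      (by norm_num : 6 < 7) _ P.isPGroup'
  obtain ⟨-, y, hy, hnor⟩ :=
    exists_normal_of_sylow h2 htrans hn ((by norm_num : 7 ∣ 63).trans h63) P hP hab (by norm_num)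
  exact kernel_of_half hodd h2 htrans (h := 3) (by norm_num) hn hy hnor
    (by intro i hi hi3; interval_cases i <;> decide)
    (a := 1) (m := 3) (by norm_num) (by norm_num)

/-- A normal subgroup of prime order with cyclic free centraliser exists from dimension two on. -/
theorem hasPrimeKernel (hodd : Odd (Nat.card D)) (h2 : ∀ e : E, 2 • e = 0)
    (htrans : ∀ a b : E, a ≠ 0 → b ≠ 0 → ∃ d : D, d • a = b) {n : ℕ}
    (hn : Nat.card E = 2 ^ n) (hn2 : 2 ≤ n) : HasPrimeKernel D E := by
  have hdvdD : 2 ^ n - 1 ∣ Nat.card D := hn ▸ card_sub_one_dvd htrans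
  have hsmall : ∀ (p c : ℕ), p.Prime → Nat.card D ∣ c → p ∣ 2 ^ n - 1 →
      (∀ i, 0 < i → i < n → ¬ p ∣ 2 ^ i - 1) → (∀ k ∈ c.divisors, k % p = 1 → k = 1) → c ≠ 0 →
      HasPrimeKernel D E := fun p c hp hc hd hord hcheck hc0 => by
    haveI := Fact.mk hp
    obtain ⟨P⟩ : Nonempty (Sylow p D) := inferInstance
    exact kernel_of_sylow_normal hodd hn hord (hd.trans hdvdD) P
      (sylow_normal_of_small P hc hcheck hc0)
  have hprim : ∀ (p : ℕ), p.Prime → p ∣ 2 ^ n - 1 →
      (∀ i, 0 < i → i < n → ¬ p ∣ 2 ^ i - 1) →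
      (∀ d : ℕ, Odd d → (2 * d ≤ n ∨ d = n) → 2 * d + 1 < p) → HasPrimeKernel D E :=
    fun p hp hd hord hlarge => by
      haveI := Fact.mk hp
      exact kernel_of_large hodd h2 hn hord (hd.trans hdvdD) (Or.inr hlarge)
  have hlist : ∀ p : ℕ, ∀ L : ℕ, L = n → ((List.range L).all fun i =>
      i == 0 || decide (¬ p ∣ 2 ^ i - 1)) = true → ∀ i, 0 < i → i < n → ¬ p ∣ 2 ^ i - 1 := by
    intro p L hL h i hi hin
    have := List.all_eq_true.1 h i (List.mem_range.2 (hL ▸ hin))
    simpa [hi.ne'] using this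
  by_cases hx : n = 2 ∨ (2, n) ∈ CfsgLib.Zsig.exceptions
  · have hcases : n = 2 ∨ n = 3 ∨ n = 4 ∨ n = 6 ∨ n = 8 ∨ n = 10 ∨ n = 12 ∨ n = 18 ∨ n = 20 := by
      rcases hx with h | h
      · exact Or.inl h
      · simp [CfsgLib.Zsig.exceptions] at h
        omega
    rcases hcases with rfl | rfl | rfl | rfl | rfl | rfl | rfl | rfl | rfl
    · exact hsmall 3 3 (by norm_num) (odd_part_dvd hodd (a := 1)
        ((card_dvd_gl h2 hn).trans (dvd_of_eq (by decide +kernel)))) (by norm_num)
        (hlist 3 2 rfl (by decide +kernel)) (by decide +kernel) (by norm_num)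
    · exact hsmall 7 21 (by norm_num) (odd_part_dvd hodd (a := 3)
        ((card_dvd_gl h2 hn).trans (dvd_of_eq (by decide +kernel)))) (by norm_num)
        (hlist 7 3 rfl (by decide +kernel)) (by decide +kernel) (by norm_num)
    · refine hprim 5 (by norm_num) (by norm_num) (hlist 5 4 rfl (by decide +kernel)) fun d hd hb => ?_
      rw [Nat.odd_iff] at hd; omega
    · exact kernel_six hodd h2 htrans hn
    · refine hprim 17 (by norm_num) (by norm_num) (hlist 17 8 rfl (by decide +kernel)) fun d hd hb => ?_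
      rw [Nat.odd_iff] at hd; omega
    · haveI : Fact (Nat.Prime 31) := ⟨by norm_num⟩
      exact kernel_of_half_big hodd h2 htrans (h := 5) (by norm_num) hn (p := 31)
        (by intro i hi hi5; interval_cases i <;> decide) (by norm_num) (by norm_num) (by norm_num)
        (a := 1) (m := 15) (by norm_num) (by norm_num)
    · refine hprim 13 (by norm_num) (by norm_num) (hlist 13 12 rfl (by decide +kernel)) fun d hd hb => ?_
      rw [Nat.odd_iff] at hd; omega
    · haveI : Fact (Nat.Prime 73) := ⟨by norm_num⟩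
      exact kernel_of_half_big hodd h2 htrans (h := 9) (by norm_num) hn (p := 73)
        (by intro i hi hi5; interval_cases i <;> decide) (by norm_num) (by norm_num) (by norm_num)
        (a := 3) (m := 9) (by norm_num) (by norm_num)
    · refine hprim 41 (by norm_num) (by norm_num) (hlist 41 20 rfl (by decide +kernel)) fun d hd hb => ?_
      rw [Nat.odd_iff] at hd; omega
  push Not at hx
  obtain ⟨m, hm, hcop, hbig⟩ :=
    CfsgLib.Zsig.exists_primitive_part (q := 2) le_rfl (by omega : 3 ≤ n) hx.2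
  have hprop : ∀ p : ℕ, p.Prime → p ∣ m →
      (∀ i, 0 < i → i < n → ¬ p ∣ 2 ^ i - 1) ∧ n ∣ p - 1 ∧ p % 2 = 1 ∧ p ∣ 2 ^ n - 1 := by
    intro p hp hpm
    have hord : ∀ i, 0 < i → i < n → ¬ p ∣ 2 ^ i - 1 := fun i hi hin hd =>
      hp.one_lt.ne' (Nat.dvd_one.1 ((hcop i hi hin).gcd_eq_one ▸ Nat.dvd_gcd hpm hd))
    have hpn := hpm.trans hm
    have hp2 : p ≠ 2 := by
      rintro rfl
      have h1 : 2 ∣ 2 ^ n := dvd_pow_self 2 (by omega)
      have h2' := Nat.dvd_sub h1 hpn
      rw [Nat.sub_sub_self Nat.one_le_two_pow] at h2'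
      norm_num at h2'
    refine ⟨hord, ?_, ?_, hpn⟩
    · have h1 : p ∣ 2 ^ (p - 1) - 1 := by
        have h := Nat.ModEq.pow_totient ((Nat.coprime_primes Nat.prime_two hp).2 (Ne.symm hp2))
        rw [Nat.totient_prime hp] at h
        exact (Nat.modEq_iff_dvd' Nat.one_le_two_pow).1 h.symm
      have h2' := Nat.dvd_gcd h1 hpn
      rw [Nat.pow_sub_one_gcd_pow_sub_one] at h2'
      have hg := Nat.gcd_dvd_right (p - 1) n
      have hg0 : 0 < Nat.gcd (p - 1) n := Nat.gcd_pos_of_pos_right _ (by omega)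
      rcases lt_or_eq_of_le (Nat.le_of_dvd (by omega) hg) with hlt | heq
      · exact absurd h2' (hord _ hg0 hlt)
      · exact heq ▸ Nat.gcd_dvd_left (p - 1) n
    · exact Nat.odd_iff.1 (hp.odd_of_ne_two hp2)
  -- the threshold
  have hlow : ∀ p : ℕ, p.Prime → p ∣ m → (if n % 2 = 0 then n + 1 else 2 * n + 1) ≤ p := by
    intro p hp hpm
    obtain ⟨-, ⟨k, hk⟩, hodd', -⟩ := hprop p hp hpm
    have := hp.two_le
    rcases k with _ | _ | k
    · omega
    · split_ifs <;> omega
    · rw [Nat.mul_add, Nat.mul_add] at hk; split_ifs <;> omega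
  set T := if n % 2 = 0 then n + 1 else 2 * n + 1 with hT
  have hT1 : T < m := by rw [hT]; split_ifs <;> omega
  by_cases hex : ∃ p : ℕ, p.Prime ∧ p ∣ m ∧ T < p
  · obtain ⟨p, hp, hpm, hlt⟩ := hex
    refine hprim p hp (hpm.trans hm) (hprop p hp hpm).1 fun d hd hb => ?_
    rw [Nat.odd_iff] at hd
    rw [hT] at hlt
    split_ifs at hlt <;> omega
  push Not at hex
  have hall : ∀ p : ℕ, p.Prime → p ∣ m → p = T := fun p hp hpm =>
    le_antisymm (hex p hp hpm) (hlow p hp hpm)
  obtain ⟨p, hp, hpm⟩ := Nat.exists_prime_and_dvd (show m ≠ 1 by omega)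
  have hsq : p ^ 2 ∣ m := by
    obtain ⟨c, rfl⟩ := hpm
    have hpT := hall p hp (dvd_mul_right p c)
    obtain ⟨q, hq, hqc⟩ := Nat.exists_prime_and_dvd (show c ≠ 1 by
      rintro rfl
      omega)
    rw [pow_two]
    exact mul_dvd_mul_left p ((hall q hq (hqc.mul_left p)).trans hpT.symm ▸ hqc)
  haveI := Fact.mk hp
  obtain ⟨hord, -, -, hpn⟩ := hprop p hp hpm
  exact kernel_of_large hodd h2 hn hord (hpn.trans hdvdD) (Or.inl ((hsq.trans hm).trans hdvdD))

/-- **The structure theorem.** -/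
theorem fitting_structure (hodd : Odd (Nat.card D)) (h2 : ∀ e : E, 2 • e = 0)
    (htrans : ∀ a b : E, a ≠ 0 → b ≠ 0 → ∃ d : D, d • a = b) :
    IsCyclic ↥(Cfsg.fittingSubgroup D) ∧ IsFree (Cfsg.fittingSubgroup D) E ∧
      commutator D ≤ Cfsg.fittingSubgroup D := by
  haveI : Fact (Nat.Prime 2) := ⟨Nat.prime_two⟩
  obtain ⟨n, hn⟩ : ∃ n, Nat.card E = 2 ^ n := by
    refine (IsPGroup.iff_card (p := 2) (G := Multiplicative E)).1 fun g => ⟨1, ?_⟩
    rw [pow_one]
    exact h2 (Multiplicative.toAdd g)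
  rcases Nat.lt_or_ge n 2 with hlt | hge
  · haveI : Subsingleton D := by
      refine (Nat.card_eq_one_iff_unique.1 (Nat.dvd_one.1 ?_)).1
      have h := card_dvd_gl (D := D) h2 hn
      interval_cases n <;> simpa using h
    exact ⟨inferInstance, fun g _ hg => absurd (Subsingleton.elim g 1) hg,
      fun g _ => by rw [Subsingleton.elim g 1]; exact Subgroup.one_mem _⟩
  obtain ⟨z, p, hp, hz, hnor, hc, hf⟩ := hasPrimeKernel hodd h2 htrans hn hge
  haveI := Fact.mk hp
  obtain ⟨hF, hcomm⟩ := criterion (E := E) hz hnor hc hf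
  exact ⟨hF ▸ hc, hF ▸ hf, hF ▸ hcomm⟩

/-- The Fitting subgroup contains its centraliser. -/
theorem centralizer_fitting_le (hodd : Odd (Nat.card D)) (h2 : ∀ e : E, 2 • e = 0)
    (htrans : ∀ a b : E, a ≠ 0 → b ≠ 0 → ∃ d : D, d • a = b) :
    Subgroup.centralizer (Cfsg.fittingSubgroup D : Set D) ≤ Cfsg.fittingSubgroup D := by
  haveI : Fact (Nat.Prime 2) := ⟨Nat.prime_two⟩
  obtain ⟨n, hn⟩ : ∃ n, Nat.card E = 2 ^ n := by
    refine (IsPGroup.iff_card (p := 2) (G := Multiplicative E)).1 fun g => ⟨1, ?_⟩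
    rw [pow_one]
    exact h2 (Multiplicative.toAdd g)
  rcases Nat.lt_or_ge n 2 with hlt | hge
  · haveI : Subsingleton D := by
      refine (Nat.card_eq_one_iff_unique.1 (Nat.dvd_one.1 ?_)).1
      have h := card_dvd_gl (D := D) h2 hn
      interval_cases n <;> simpa using h
    intro g _
    rw [Subsingleton.elim g 1]
    exact Subgroup.one_mem _
  obtain ⟨z, p, hp, hz, hnor, hc, hf⟩ := hasPrimeKernel hodd h2 htrans hn hge
  haveI := Fact.mk hp
  obtain ⟨hF, -⟩ := criterion (E := E) hz hnor hc hf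
  rw [hF]
  exact Subgroup.centralizer_le (Set.singleton_subset_iff.2
    (Subgroup.mem_centralizer_singleton_iff.2 rfl))

end CfsgLib.OddTransitive
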