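import Cfsg.Agent.Solvable.PGroupBasic
import Cfsg.Prelude.Def_Solvable
import Mathlib.Algebra.Group.Subgroup.Basic
import Mathlib.Algebra.Module.ZMod
import Mathlib.Data.Nat.GCD.Basic
import Mathlib.GroupTheory.GroupAction.Quotient
import Mathlib.GroupTheory.PGroup
import Mathlib.LinearAlgebra.Matrix.GeneralLinearGroup.Card
import Mathlib.RingTheory.IntegralDomain
import Mathlib.RingTheory.LittleWedderburn

/-!
# Free and irreducible subgroups of a group acting on an elementary abelian 2-group
-/

set_option autoImplicit false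
set_option linter.style.haveILetI false
set_option linter.unusedSectionVars false

open scoped commutatorElement

namespace CfsgLib.OddTransitive

universe u v

variable {D : Type u} [Group D] {E : Type v} [AddCommGroup E] [DistribMulAction D E]

/-- A subgroup whose nontrivial elements fix only zero. -/
def IsFree (H : Subgroup D) (E : Type v) [AddCommGroup E] [DistribMulAction D E] : Prop :=
  ∀ h ∈ H, h ≠ 1 → ∀ e : E, h • e = e → e = 0

/-- A subgroup without invariant proper nontrivial subgroup of `E`. -/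
def IsIrred (H : Subgroup D) (E : Type v) [AddCommGroup E] [DistribMulAction D E] : Prop :=
  ∀ W : AddSubgroup E, (∀ h ∈ H, ∀ w ∈ W, h • w ∈ W) → W = ⊥ ∨ W = ⊤

variable [Finite D] [Finite E]

/-- The order of a free subgroup divides the number of nonzero vectors of an invariant subgroup. -/
theorem card_dvd_of_free {H : Subgroup D} (hH : IsFree H E) (W : AddSubgroup E)
    (hW : ∀ h ∈ H, ∀ w ∈ W, h • w ∈ W) : Nat.card H ∣ Nat.card W - 1 := by
  classical
  let X := {w : W // w ≠ 0}
  letI : MulAction H X :=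
    { smul := fun h w => ⟨⟨(h : D) • (w.1 : E), hW h h.2 _ w.1.2⟩, fun h0 => w.2 (Subtype.ext (by
        have h1 : (h : D) • (w.1 : E) = 0 := congrArg Subtype.val h0
        simpa using congrArg (fun e : E => (h : D)⁻¹ • e) h1))⟩
      one_smul := fun w => Subtype.ext (Subtype.ext (one_smul D (w.1 : E)))
      mul_smul := fun a b w => Subtype.ext (Subtype.ext (mul_smul (a : D) (b : D) (w.1 : E))) }
  have hstab : ∀ b : X, MulAction.stabilizer H b = ⊥ := fun b => by
    refine (Subgroup.eq_bot_iff_forall _).2 fun h hh => ?_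
    by_contra hne
    refine b.2 (Subtype.ext (hH h h.2 (fun h1 => hne (Subtype.ext h1)) b.1 ?_))
    exact congrArg (fun w : X => (w.1 : E)) (MulAction.mem_stabilizer_iff.1 hh)
  have h := Nat.card_congr (MulAction.selfEquivOrbitsQuotientProd hstab)
  rw [Nat.card_prod] at h
  have hX : Nat.card X = Nat.card W - 1 := by
    haveI := Fintype.ofFinite W
    rw [Nat.card_eq_fintype_card, Nat.card_eq_fintype_card, Fintype.card_subtype_compl,
      Fintype.card_subtype_eq]
  rw [← hX, h]
  exact dvd_mul_left _ _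

/-- The order of a free subgroup divides the number of nonzero vectors. -/
theorem card_dvd_of_free_top {H : Subgroup D} (hH : IsFree H E) :
    Nat.card H ∣ Nat.card E - 1 := by
  have h := card_dvd_of_free hH ⊤ fun _ _ _ _ => AddSubgroup.mem_top _
  rwa [AddSubgroup.card_top] at h

theorem card_addSubgroup_eq {n : ℕ} (hn : Nat.card E = 2 ^ n) (W : AddSubgroup E) :
    ∃ k ≤ n, Nat.card W = 2 ^ k :=
  (Nat.dvd_prime_pow Nat.prime_two).1 (hn ▸ W.card_addSubgroup_dvd_card)

/-- A free subgroup of large order is irreducible. -/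
theorem isIrred_of_free {n : ℕ} (hn : Nat.card E = 2 ^ n) {H : Subgroup D} (hH : IsFree H E)
    (hbig : ∀ k, 0 < k → k < n → ¬ Nat.card H ∣ 2 ^ k - 1) : IsIrred H E := by
  intro W hW
  obtain ⟨k, hk, hc⟩ := card_addSubgroup_eq hn W
  rcases Nat.eq_zero_or_pos k with rfl | hk0
  · exact Or.inl (AddSubgroup.eq_bot_of_card_eq W (by rw [hc, pow_zero]))
  rcases lt_or_eq_of_le hk with hlt | rfl
  · exact absurd (hc ▸ card_dvd_of_free hH W hW) (hbig k hk0 hlt)
  · exact Or.inr (AddSubgroup.eq_top_of_card_eq W (hc.trans hn.symm))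

/-- An element of prime order `p` with `2` of order `n` modulo `p` fixes only zero. -/
theorem free_of_primitive [FaithfulSMul D E] {n : ℕ} (hn : Nat.card E = 2 ^ n) {x : D} {p : ℕ}
    [Fact p.Prime] (hx : orderOf x = p) (hp2 : p ≠ 2)
    (hord : ∀ i, 0 < i → i < n → ¬ p ∣ 2 ^ i - 1) : IsFree (Subgroup.zpowers x) E := by
  have hp : p.Prime := Fact.out
  have key : ∀ e : E, x • e = e → e = 0 := by
    let F : AddSubgroup E :=
      { carrier := {e | x • e = e}
        zero_mem' := smul_zero _
        add_mem' := fun {a b} ha hb => by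
          show x • (a + b) = a + b
          rw [smul_add, ha, hb]
        neg_mem' := fun {a} ha => by
          show x • -a = -a
          rw [smul_neg, ha] }
    obtain ⟨k, hk, hc⟩ := card_addSubgroup_eq hn F
    have hP : IsPGroup p (Subgroup.zpowers x) :=
      IsPGroup.of_card (n := 1) (by rw [Nat.card_zpowers, hx, pow_one])
    have hfp : MulAction.fixedPoints (Subgroup.zpowers x) E = (F : Set E) := by
      ext e
      rw [MulAction.mem_fixedPoints]
      refine ⟨fun h => h ⟨x, Subgroup.mem_zpowers x⟩, fun h g => ?_⟩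
      have h1 : Subgroup.zpowers x ≤ MulAction.stabilizer D e :=
        Subgroup.zpowers_le.2 (MulAction.mem_stabilizer_iff.2 h)
      exact h1 g.2
    have h := hP.card_modEq_card_fixedPoints E
    rw [hfp, hn, show Nat.card (F : Set E) = 2 ^ k from hc] at h
    have h2 : p ∣ 2 ^ (n - k) - 1 := by
      have h3 : p ∣ 2 ^ n - 2 ^ k :=
        (Nat.modEq_iff_dvd' (Nat.pow_le_pow_right (by norm_num) hk)).1 h.symm
      have h4 : 2 ^ n - 2 ^ k = 2 ^ k * (2 ^ (n - k) - 1) := by
        rw [Nat.mul_sub, mul_one, ← pow_add, Nat.add_sub_cancel' hk]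
      rw [h4] at h3
      exact (hp.dvd_mul.1 h3).resolve_left fun h5 =>
        hp2 ((Nat.prime_dvd_prime_iff_eq hp Nat.prime_two).1 (hp.dvd_of_dvd_pow h5))
    intro e he
    rcases Nat.eq_zero_or_pos k with rfl | hk0
    · have hF : F = ⊥ := AddSubgroup.eq_bot_of_card_eq F (by rw [hc, pow_zero])
      exact AddSubgroup.mem_bot.1 (hF ▸ (he : e ∈ F))
    rcases lt_or_eq_of_le hk with hlt | rfl
    · exact absurd h2 (hord (n - k) (by omega) (by omega))
    · have hF : F = ⊤ := AddSubgroup.eq_top_of_card_eq F (hc.trans hn.symm)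
      have h1 : x = 1 := FaithfulSMul.eq_of_smul_eq_smul (α := E) fun e => by
        rw [one_smul]
        exact (hF ▸ AddSubgroup.mem_top e : e ∈ F)
      rw [h1, orderOf_one] at hx
      exact absurd hx.symm hp.one_lt.ne'
  intro h hh h1 e he
  have hz : Subgroup.zpowers h = Subgroup.zpowers x := by
    refine Subgroup.eq_of_le_of_card_ge (Subgroup.zpowers_le.2 hh) ?_
    have hdvd : Nat.card (Subgroup.zpowers h) ∣ p := by
      rw [← hx, ← Nat.card_zpowers x]
      exact Subgroup.card_dvd_of_le (Subgroup.zpowers_le.2 hh)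
    rcases (Nat.dvd_prime hp).1 hdvd with h' | h'
    · exact absurd (orderOf_eq_one_iff.1 (Nat.card_zpowers h ▸ h')) h1
    · rw [h', Nat.card_zpowers, hx]
  refine key e ?_
  have hle : Subgroup.zpowers h ≤ MulAction.stabilizer D e :=
    Subgroup.zpowers_le.2 (MulAction.mem_stabilizer_iff.2 he)
  exact MulAction.mem_stabilizer_iff.1 (hle (hz ▸ Subgroup.mem_zpowers x))

/-- **Schur.** The centraliser of an irreducible subgroup is cyclic and fixes only zero. -/
theorem centralizer_of_irred [FaithfulSMul D E] [Nontrivial E] {H : Subgroup D}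
    (hH : IsIrred H E) :
    IsCyclic (Subgroup.centralizer (H : Set D)) ∧ IsFree (Subgroup.centralizer (H : Set D)) E := by
  classical
  let L : D →* AddMonoid.End E :=
    { toFun := fun d => DistribSMul.toAddMonoidHom E d
      map_one' := AddMonoidHom.ext fun e => one_smul D e
      map_mul' := fun a b => AddMonoidHom.ext fun e => mul_smul a b e }
  let S : Subring (AddMonoid.End E) := Subring.centralizer (L '' (H : Set D))
  have hker : ∀ f : S, f ≠ 0 → ∀ e : E, f.1 e = 0 → e = 0 := by
    intro f hf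
    let W : AddSubgroup E := (f.1 : E →+ E).ker
    rcases hH W fun h hh w hw => by
      have hc := congrArg (fun g : AddMonoid.End E => g w)
        (Subring.mem_centralizer_iff.1 f.2 (L h) ⟨h, hh, rfl⟩)
      show f.1 (h • w) = 0
      refine Eq.trans hc.symm ?_
      show h • f.1 w = 0
      rw [show f.1 w = 0 from hw, smul_zero] with h0 | h0
    · exact fun e he => AddSubgroup.mem_bot.1 (h0 ▸ (he : e ∈ W))
    · refine absurd (Subtype.ext (AddMonoidHom.ext fun e => ?_) : f = 0) hf
      exact AddMonoidHom.mem_ker.1 (h0 ▸ AddSubgroup.mem_top e : e ∈ W)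
  haveI : Finite (AddMonoid.End E) := Finite.of_injective (fun f => ⇑f) DFunLike.coe_injective
  haveI : Nontrivial S := by
    obtain ⟨e, he⟩ := exists_ne (0 : E)
    exact ⟨⟨1, 0, fun h => he (DFunLike.congr_fun (congrArg Subtype.val h) e)⟩⟩
  haveI : NoZeroDivisors S := ⟨fun {a b} hab => by
    by_contra hne
    push Not at hne
    exact hne.2 (Subtype.ext (AddMonoidHom.ext fun e => hker a hne.1 _
      (DFunLike.congr_fun (congrArg Subtype.val hab) e)))⟩
  haveI : IsDomain S := NoZeroDivisors.to_isDomain S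
  letI : CommRing S :=
    { (inferInstance : Ring S) with mul_comm := (Finite.isDomain_to_isField S).mul_comm }
  let φ : Subgroup.centralizer (H : Set D) →* S :=
    { toFun := fun c => ⟨L (c : D), Subring.mem_centralizer_iff.2 (by
        rintro _ ⟨h, hh, rfl⟩
        rw [← map_mul, ← map_mul, Subgroup.mem_centralizer_iff.1 c.2 h hh])⟩
      map_one' := Subtype.ext (map_one L)
      map_mul' := fun a b => Subtype.ext (map_mul L (a : D) (b : D)) }
  have hinj : Function.Injective φ := fun a b hab => Subtype.ext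
    (FaithfulSMul.eq_of_smul_eq_smul (α := E) fun e =>
      DFunLike.congr_fun (congrArg Subtype.val hab) e)
  refine ⟨isCyclic_of_subgroup_isDomain φ hinj, fun c hc hc1 e he => ?_⟩
  refine hker (φ ⟨c, hc⟩ - 1) (sub_ne_zero.2 fun h => hc1 ?_) e ?_
  · exact congrArg Subtype.val (hinj (h.trans (map_one φ).symm))
  · show c • e - e = 0
    rw [he, sub_self]

/-- **An abelian normal subgroup of a transitive group is free.** -/
theorem free_of_normal_comm [FaithfulSMul D E] (h2 : ∀ e : E, 2 • e = 0)
    (htrans : ∀ a b : E, a ≠ 0 → b ≠ 0 → ∃ d : D, d • a = b) (A : Subgroup D) [A.Normal]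
    (hA : ∀ a ∈ A, ∀ b ∈ A, a * b = b * a) : IsFree A E := by
  classical
  let B : E → Subgroup D := fun e => A ⊓ MulAction.stabilizer D e
  have hcard : ∀ u w : E, u ≠ 0 → w ≠ 0 → Nat.card (B u) ≤ Nat.card (B w) := by
    intro u w hu hw
    obtain ⟨d, rfl⟩ := htrans u w hu hw
    have hle : (B u).map (MulAut.conj d).toMonoidHom ≤ B (d • u) := by
      rintro _ ⟨a, ha, rfl⟩
      refine ⟨(inferInstance : A.Normal).conj_mem a ha.1 d, MulAction.mem_stabilizer_iff.2 ?_⟩
      show (d * a * d⁻¹) • d • u = d • u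
      rw [← mul_smul, inv_mul_cancel_right, mul_smul, MulAction.mem_stabilizer_iff.1 ha.2]
    rw [Nat.card_congr ((B u).equivMapOfInjective (MulAut.conj d).toMonoidHom (MulEquiv.injective (MulAut.conj d))).toEquiv]
    exact Subgroup.card_le_of_le hle
  have heq : ∀ u w : E, u ≠ 0 → w ≠ 0 → B u ≤ B w := by
    intro u w hu hw
    by_cases huw : u + w = 0
    · have : w = u := by
        have h2u : u + u = 0 := by rw [← two_nsmul]; exact h2 u
        exact add_left_cancel (huw.trans h2u.symm)
      rw [this]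
    by_contra hne
    have hle : B (u + w) ≤ B u ⊓ B w := by
      rintro a ⟨haA, ha⟩
      have ha' : a • u - u = w - a • w := by
        rw [sub_eq_sub_iff_add_eq_add, add_comm w u, ← smul_add]
        exact MulAction.mem_stabilizer_iff.1 ha
      have hfix : ∀ b x, b ∈ B x → b • (a • x - x) = a • x - x := fun b x hb => by
        rw [smul_sub, ← mul_smul, hA b hb.1 a haA, mul_smul, MulAction.mem_stabilizer_iff.1 hb.2]
      by_cases h0 : a • u - u = 0
      · exact ⟨⟨haA, MulAction.mem_stabilizer_iff.2 (sub_eq_zero.1 h0)⟩, haA,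
          MulAction.mem_stabilizer_iff.2 (sub_eq_zero.1 (by rw [← ha', h0] : w - a • w = 0)).symm⟩
      exfalso
      refine hne (le_of_eq ?_)
      have h1 : B u ≤ B (a • u - u) := fun b hb =>
        ⟨hb.1, MulAction.mem_stabilizer_iff.2 (hfix b u hb)⟩
      have h2' : B w ≤ B (a • u - u) := fun b hb => ⟨hb.1, MulAction.mem_stabilizer_iff.2 (by
        rw [ha', show w - a • w = -(a • w - w) by abel, smul_neg, hfix b w hb])⟩
      rw [Subgroup.eq_of_le_of_card_ge h1 (hcard _ _ h0 hu),
        Subgroup.eq_of_le_of_card_ge h2' (hcard _ _ h0 hw)]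
    exact hne ((Subgroup.eq_of_le_of_card_ge (hle.trans inf_le_left) (hcard _ _ hu huw)).symm.le.trans
      (hle.trans inf_le_right))
  intro h hh h1 e he
  by_contra hne
  refine h1 (FaithfulSMul.eq_of_smul_eq_smul (α := E) fun w => ?_)
  rw [one_smul]
  rcases eq_or_ne w 0 with rfl | hw
  · exact smul_zero h
  · exact MulAction.mem_stabilizer_iff.1
      (heq e w hne hw ⟨hh, MulAction.mem_stabilizer_iff.2 he⟩).2

/-- Transitivity makes the number of nonzero vectors divide the order. -/
theorem card_sub_one_dvd [Nontrivial E]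
    (htrans : ∀ a b : E, a ≠ 0 → b ≠ 0 → ∃ d : D, d • a = b) :
    Nat.card E - 1 ∣ Nat.card D := by
  classical
  obtain ⟨e, he⟩ := exists_ne (0 : E)
  have horb : MulAction.orbit D e = {w : E | w ≠ 0} := by
    ext w
    refine ⟨?_, fun hw => htrans e w he hw⟩
    rintro ⟨d, rfl⟩ h0
    exact he (by simpa using congrArg (fun x : E => d⁻¹ • x) h0)
  haveI := Fintype.ofFinite E
  have hX : Nat.card {w : E | w ≠ 0} = Nat.card E - 1 := by
    rw [Nat.card_eq_fintype_card, Nat.card_eq_fintype_card]
    exact (Fintype.card_subtype_compl _).trans (by rw [Fintype.card_subtype_eq])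
  rw [← hX, ← horb, Nat.card_coe_set_eq, ← MulAction.index_stabilizer]
  exact Subgroup.index_dvd_card _

/-- The order divides that of the general linear group. -/
theorem card_dvd_gl [FaithfulSMul D E] (h2 : ∀ e : E, 2 • e = 0) {n : ℕ}
    (hn : Nat.card E = 2 ^ n) : Nat.card D ∣ ∏ i : Fin n, (2 ^ n - 2 ^ (i : ℕ)) := by
  haveI : Fact (Nat.Prime 2) := ⟨Nat.prime_two⟩
  letI : Module (ZMod 2) E := AddCommGroup.zmodModule h2
  haveI : FiniteDimensional (ZMod 2) E := Module.Finite.of_finite
  have hfr : Module.finrank (ZMod 2) E = n := by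
    have h := Module.natCard_eq_pow_finrank (K := ZMod 2) (V := E)
    rw [hn, Nat.card_zmod] at h
    exact (Nat.pow_right_injective le_rfl h).symm
  let b := Module.finBasisOfFinrankEq (ZMod 2) E hfr
  let L : D →* Module.End (ZMod 2) E :=
    { toFun := fun g => (DistribSMul.toAddMonoidHom E g).toZModLinearMap 2
      map_one' := LinearMap.ext fun e => one_smul D e
      map_mul' := fun g h => LinearMap.ext fun e => mul_smul g h e }
  let f : D →* GL (Fin n) (ZMod 2) := ((LinearMap.toMatrixAlgEquiv b).toMonoidHom.comp L).toHomUnits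
  have hf : Function.Injective f := fun g h hgh => FaithfulSMul.eq_of_smul_eq_smul (α := E) fun e =>
    LinearMap.congr_fun ((LinearMap.toMatrixAlgEquiv b).injective
      (congrArg Units.val hgh : LinearMap.toMatrixAlgEquiv b (L g) = LinearMap.toMatrixAlgEquiv b (L h))) e
  have h := Subgroup.card_dvd_of_injective f hf
  rwa [Matrix.card_GL_field, ZMod.card] at h

/-- **The criterion.** A normal subgroup of prime order with cyclic free centraliser gives the
structure of the Fitting subgroup. -/
theorem criterion {z : D} {p : ℕ} [Fact p.Prime] (hz : orderOf z = p)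
    (hn : (Subgroup.zpowers z).Normal) (hc : IsCyclic (Subgroup.centralizer ({z} : Set D)))
    (hf : IsFree (Subgroup.centralizer ({z} : Set D)) E) :
    Cfsg.fittingSubgroup D = Subgroup.centralizer ({z} : Set D) ∧
      commutator D ≤ Subgroup.centralizer ({z} : Set D) := by
  have hp : p.Prime := Fact.out
  set Z := Subgroup.zpowers z with hZ
  haveI := hn
  have hCZ : Subgroup.centralizer ({z} : Set D) = Subgroup.centralizer (Z : Set D) := by
    rw [hZ, Subgroup.zpowers_eq_closure, Subgroup.centralizer_closure]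
  haveI : (Subgroup.centralizer ({z} : Set D)).Normal := hCZ ▸ Subgroup.normal_centralizer
  refine ⟨le_antisymm (sSup_le ?_) (le_sSup ⟨inferInstance, ?_⟩), ?_⟩
  · rintro N ⟨hNn, hNnil⟩ g hg
    haveI := hNn
    haveI := hNnil
    rw [Subgroup.mem_centralizer_singleton_iff]
    have hcz : g * z * g⁻¹ * z⁻¹ ∈ Z ⊓ N := by
      refine ⟨Z.mul_mem (hn.conj_mem z (Subgroup.mem_zpowers z) g)
        (Z.inv_mem (Subgroup.mem_zpowers z)), ?_⟩
      rw [mul_assoc g, mul_assoc g]
      exact N.mul_mem hg (hNn.conj_mem _ (N.inv_mem hg) z)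
    by_cases hzN : z ∈ N
    · let zN : N := ⟨z, hzN⟩
      have hbot : Subgroup.zpowers zN ≠ ⊥ := by
        rw [Ne, Subgroup.zpowers_eq_bot]
        intro h
        rw [show z = 1 from congrArg Subtype.val h, orderOf_one] at hz
        exact hp.one_lt.ne hz
      haveI : (Subgroup.zpowers zN).Normal := ⟨fun y hy g => by
        obtain ⟨i, rfl⟩ := Subgroup.mem_zpowers_iff.1 hy
        obtain ⟨j, hj⟩ := Subgroup.mem_zpowers_iff.1 (hn.conj_mem z (Subgroup.mem_zpowers z) g)
        refine Subgroup.mem_zpowers_iff.2 ⟨j * i, Subtype.ext ?_⟩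
        simp only [SubgroupClass.coe_zpow, Subgroup.coe_mul, Subgroup.coe_inv, zN]
        rw [zpow_mul, hj, conj_zpow]⟩
      obtain ⟨⟨w, hw⟩, hw1'⟩ := (Subgroup.ne_bot_iff_exists_ne_one).1
        (CfsgLib.PGroupBasic.inf_center_ne_bot _ hbot)
      have hw1 : w ≠ 1 := fun h => hw1' (Subtype.ext h)
      have hord : orderOf zN = p := by rw [← hz, ← Subgroup.orderOf_coe zN]
      have hgen : Subgroup.zpowers w = Subgroup.zpowers zN := by
        refine Subgroup.eq_of_le_of_card_ge (Subgroup.zpowers_le.2 hw.1) ?_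
        have hdvd : Nat.card (Subgroup.zpowers w) ∣ p := by
          rw [← hord, ← Nat.card_zpowers zN]
          exact Subgroup.card_dvd_of_le (Subgroup.zpowers_le.2 hw.1)
        rcases (Nat.dvd_prime hp).1 hdvd with h' | h'
        · exact absurd (orderOf_eq_one_iff.1 (Nat.card_zpowers w ▸ h')) hw1
        · rw [h', Nat.card_zpowers, hord]
      have hzc : zN ∈ Subgroup.center N :=
        (Subgroup.zpowers_le.2 hw.2) (hgen ▸ Subgroup.mem_zpowers zN)
      exact congrArg Subtype.val (Subgroup.mem_center_iff.1 hzc ⟨g, hg⟩)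
    · have h1 : g * z * g⁻¹ * z⁻¹ = 1 := by
        by_contra hne
        refine hzN ?_
        have hgen : Subgroup.zpowers (g * z * g⁻¹ * z⁻¹) = Z := by
          refine Subgroup.eq_of_le_of_card_ge (Subgroup.zpowers_le.2 hcz.1) ?_
          have hdvd : Nat.card (Subgroup.zpowers (g * z * g⁻¹ * z⁻¹)) ∣ p := by
            rw [← hz, ← Nat.card_zpowers z]
            exact Subgroup.card_dvd_of_le (Subgroup.zpowers_le.2 hcz.1)
          rcases (Nat.dvd_prime hp).1 hdvd with h' | h'
          · exact absurd (orderOf_eq_one_iff.1 ((Nat.card_zpowers (g * z * g⁻¹ * z⁻¹)).symm.trans h')) hne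
          · rw [h', hZ, Nat.card_zpowers, hz]
        exact (Subgroup.zpowers_le.2 hcz.2) (hgen ▸ Subgroup.mem_zpowers z)
      exact mul_inv_eq_iff_eq_mul.1 (mul_inv_eq_one.1 h1)
  · haveI := hc
    letI := IsCyclic.commGroup (α := Subgroup.centralizer ({z} : Set D))
    infer_instance
  · rw [commutator_def, Subgroup.commutator_le]
    intro a _ b _
    rw [Subgroup.mem_centralizer_singleton_iff]
    have hconj : ∀ g : D, ∃ i : ℤ, g * z * g⁻¹ = z ^ i := fun g =>
      (Subgroup.mem_zpowers_iff.1 (hn.conj_mem z (Subgroup.mem_zpowers z) g)).imp fun i hi => hi.symm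
    obtain ⟨i, hi⟩ := hconj a
    obtain ⟨j, hj⟩ := hconj b
    have h1 : a * b * z * (a * b)⁻¹ = b * a * z * (b * a)⁻¹ := by
      have ea : a * b * z * (a * b)⁻¹ = a * (b * z * b⁻¹) * a⁻¹ := by group
      have eb : b * a * z * (b * a)⁻¹ = b * (a * z * a⁻¹) * b⁻¹ := by group
      rw [ea, eb, hj, hi, ← conj_zpow, ← conj_zpow, hi, hj, ← zpow_mul, ← zpow_mul, mul_comm]
    have h3 : (b * a)⁻¹ * (a * b) * z = z * ((b * a)⁻¹ * (a * b)) := by
      have h4 := congrArg (fun w => (b * a)⁻¹ * w * (a * b)) h1
      group at h4 ⊢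
      exact h4
    have h5 : ⁅a, b⁆ = (b * a) * ((b * a)⁻¹ * (a * b)) * (b * a)⁻¹ := by
      rw [commutatorElement_def]; group
    show ⁅a, b⁆ * z = z * ⁅a, b⁆
    rw [h5]
    have hmem : (b * a)⁻¹ * (a * b) ∈ Subgroup.centralizer ({z} : Set D) :=
      Subgroup.mem_centralizer_singleton_iff.2 h3
    exact Subgroup.mem_centralizer_singleton_iff.1
      ((inferInstance : (Subgroup.centralizer ({z} : Set D)).Normal).conj_mem _ hmem (b * a))

end CfsgLib.OddTransitive
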